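import Cfsg.Agent.Lib.TwistSub.Rat

/-!
Borel elements and the Sylow subgroup of the rational part of a twisted group.
-/

set_option autoImplicit false
set_option linter.unusedSectionVars false

namespace CfsgLib.TwistSub

open Cfsg.Lie CfsgLib.Chev CfsgLib.Twisted CfsgLib.Chevalley

variable {D : ChevalleyDatum} {T : Tabs} {S : TwistSym D} {P : Spots} {H : List ℤ}
  {K : Type*} [Field K] {φ : K ≃+* K}

/-- A coefficient of least height outside a closed set vanishes. -/
theorem lead_zero_of_uGen (hc : Checked D T) (hH : HtPos D T) (hcomm : CommOne D T) {Q : ℕ → Prop}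
    (hQ : ClosedPos D T Q) {h : ℤ} (h1 : 1 ≤ h) (hle : ∀ r, r < D.nroots → Q r → h ≤ hgt D T r)
    {w : GL D.Idx K} (hw : w ∈ uGen D K Q) {v : ℕ} (hv : v < D.nroots) (hvp : D.nroots / 2 ≤ v)
    (hvh : hgt D T v = h) (hvQ : ¬ Q v) (j : Fin D.rank) : lead w v j = 0 := by
  obtain ⟨t, rfl⟩ := uGen_exists hc hcomm hQ hw
  rw [uProd, lead_list_prod hc h1 _ ?_ hv hvh, List.map_map]
  · refine List.sum_eq_zero fun x hx => ?_
    obtain ⟨r, hr, rfl⟩ := List.mem_map.1 hx
    obtain ⟨-, h2, h3⟩ := mem_rootsFrom.1 hr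
    simp only [Function.comp_apply]
    rw [lead_elX hc hH h2 (hQ.1 r h2 h3) hv hvp (hvh ▸ hle r h2 h3),
      if_neg fun e : r = v => hvQ (e ▸ h3)]
  · intro g hg
    obtain ⟨r, hr, rfl⟩ := List.mem_map.1 hg
    obtain ⟨-, h2, h3⟩ := mem_rootsFrom.1 hr
    exact elX_mem_highU hc h2 (hQ.1 r h2 h3) (hle r h2 h3) _

section
variable (cx : Ctx D T S P H φ)
include cx

theorem Ctx.pos_mem {g : GL D.Idx K} (hg : g ∈ D.posUnipotent K) :
    g ∈ uGen D K (fun r => D.nroots / 2 ≤ r) := by rwa [← posUnipotent_eq cx.hc]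

theorem Ctx.highU_one_iff {g : GL D.Idx K} : g ∈ highU D T K 1 ↔ g ∈ D.posUnipotent K := by
  rw [highU_one cx.hc (TwistSym.htPos cx.hO)]

theorem Ctx.olen_pos (r : ℕ) : 0 < S.olen r := by
  rcases TwistSym.olen_cases S r with e | e <;> rw [e.2]
  · exact one_pos
  · exact TwistSym.d_pos cx.hS

/-- The coefficient of an orbit product at its representative. -/
theorem Ctx.lead_self {r : ℕ} (hr : r ∈ S.repList) (a : K) (j : Fin D.rank) :
    lead (orbX cx.hS φ r a) r j = (cv T r j : K) * a := by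
  simpa [TwistSym.imgIter, TwistSym.sgnIter] using
    lead_orbX cx.hc cx.hS cx.hO φ hr rfl hr (cx.olen_pos r) rfl rfl a j

theorem Ctx.fixed_pos_le {g : GL D.Idx K} (hg : g ∈ D.posUnipotent K)
    (hf : g ∈ fixedSub S cx.hS φ) : g ∈ twistGrp cx.hS φ :=
  posU_fixed_le cx.hc cx.hcomm cx.hS cx.hO φ cx.hN ⟨hg, hf⟩

/-- An element carrying the orbit products of the nodes into `U` lies in `B`. -/
theorem Ctx.mem_borel_of_conj {g : GL D.Idx K} (hg : g ∈ twistGrp cx.hS φ)
    (h : ∀ i ∈ S.repNodes, g * orbX cx.hS φ (D.simple i) 1 * g⁻¹ ∈ D.posUnipotent K) :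
    g ∈ D.borelSubgroup K := by
  have hc := cx.hc
  have hS := cx.hS
  have hH := TwistSym.htPos cx.hO
  obtain ⟨u, hu, d, hd, L, v, hv, hk, rfl⟩ := fixed_bruhat hc cx.hcomm hS φ
    (twistGrp_le_group hc hS φ hg) (twistGrp_le_fixed hc hS φ hg)
  have hvU := uInv_le_pos hc L hv.1
  have hrep : ∀ i ∈ S.repNodes, D.nroots / 2 ≤ sigs D T L (D.simple i) := by
    intro i hi
    obtain ⟨hsr, hs1⟩ := repNode_at hc hS cx.hO hi
    obtain ⟨hsn, hsp⟩ := mem_repList hsr
    set a := orbX hS φ (D.simple i) (1 : K) with ha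
    have haU : a ∈ uGen D K (fun r => D.nroots / 2 ≤ r) :=
      cx.pos_mem (orbX_mem_pos hc hS φ cx.hO hsn hsp 1)
    obtain ⟨w₁, hw₁, w₂, hw₂, hw⟩ := uGen_split hc cx.hcomm (closedPos_pos hc)
      (Q := KeepRoot D T L) (R := InvRoot D T L) (fun r _ hp => by
        by_cases hn : D.nroots / 2 ≤ sigs D T L r
        exacts [Or.inl ⟨hp, hn⟩, Or.inr ⟨hp, by omega⟩])
      (mul_mem (mul_mem hvU haU) (inv_mem hvU))
    have hkey : nProd D K L * w₂ * (nProd D K L)⁻¹ ∈ uGen D K (fun r => D.nroots / 2 ≤ r) := by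
      have h1 : d * (nProd D K L * (w₁ * w₂) * (nProd D K L)⁻¹) * d⁻¹ ∈
          uGen D K (fun r => D.nroots / 2 ≤ r) := by
        rw [← hw]
        have := mul_mem (mul_mem (inv_mem (cx.pos_mem hu.1)) (cx.pos_mem (h i hi))) (cx.pos_mem hu.1)
        convert this using 1
        rw [ha]
        group
      have h2 := diag_conj_mem' hc _ hd h1
      rw [show ∀ x : GL D.Idx K, d⁻¹ * (d * x * d⁻¹) * d = x from fun x => by group] at h2
      have := mul_mem (inv_mem (nProd_conj_keep hc L hw₁)) h2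
      convert this using 1
      group
    have hw₂' : w₂ = 1 :=
      conj_eq_one_iff.1 (borel_inf_neg hc (pos_le_borel hc hkey) (nProd_conj_uInv hc L hw₂))
    rw [hw₂', mul_one] at hw
    by_contra hneg
    obtain ⟨j, hj⟩ := exists_cv_ne_zero hc K hsn
    have h0 : lead w₁ (D.simple i) j = 0 := lead_zero_of_uGen hc hH cx.hcomm
      (closedPos_keep hc L) le_rfl (fun r hr hq => hH r hr hq.1) hw₁ hsn hsp hs1
      (fun hq => hneg hq.2) j
    rw [← hw] at h0
    have hvH : v ∈ highU D T K 1 := by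
      rw [cx.highU_one_iff, posUnipotent_eq hc]; exact hvU
    have haH : a ∈ highU D T K 1 := by
      rw [cx.highU_one_iff, posUnipotent_eq hc]; exact haU
    rw [(lead_conj hc hH cx.hcomm le_rfl hvH haH hsn hs1 j).2, ha, cx.lead_self hsr] at h0
    simp [hj] at h0
  have hall : ∀ j : Fin D.rank, D.nroots / 2 ≤ sigs D T L (D.simple j.1) := by
    intro j
    obtain ⟨i, hi, k, -, hk'⟩ := TwistSym.node_cover cx.hT j.2
    have hi' := (mem_repNodes hi).1
    rw [← hk']
    clear hk'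
    induction k with
    | zero => exact hrep i hi
    | succ k ih =>
      show _ ≤ sigs D T L (S.img _)
      have hl := TwistSym.imgIter_lt hS (simple_lt hc hi') k
      rw [simple_img_image hc hS φ hd hk hl]
      exact (TwistSym.orbit_spec hS (sigs_lt hc L hl)).2.2.1.1 ih
  exact mul_mem (mul_mem (pos_le_borel hc (cx.pos_mem hu.1))
    (mul_mem (diagonal_le_borel hc hd) (diagonal_le_borel hc (nProd_mem_of_pos hc L hall))))
    (pos_le_borel hc hvU)

/-- A `p`-element of `B` lies in `U`. -/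
theorem Ctx.pos_of_borel (p : ℕ) [Fact p.Prime] [CharP K p] {x : GL D.Idx K}
    (hx : x ∈ D.borelSubgroup K) (hp : ∃ k : ℕ, x ^ p ^ k = 1) : x ∈ D.posUnipotent K := by
  have hc := cx.hc
  obtain ⟨u, hu, t, ht, rfl⟩ := (mem_borel hc).1 hx
  obtain ⟨k, hk⟩ := hp
  have hpow : ∀ j : ℕ, ∃ y ∈ uGen D K (fun r => D.nroots / 2 ≤ r), (u * t) ^ j = y * t ^ j := by
    intro j
    induction j with
    | zero => exact ⟨1, one_mem _, by simp⟩
    | succ j ih =>
      obtain ⟨y, hy, ey⟩ := ih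
      refine ⟨u * (t * y * t⁻¹), mul_mem hu (diag_conj_mem hc _ ht hy), ?_⟩
      rw [pow_succ', ey, pow_succ']; group
  obtain ⟨y, hy, ey⟩ := hpow (p ^ k)
  rw [hk] at ey
  have htk : t ^ p ^ k = 1 := pos_inf_diag hc (by
    rw [eq_inv_of_mul_eq_one_right ey.symm]; exact inv_mem hy) (pow_mem ht _)
  obtain ⟨c, hcc⟩ := (mem_diagonal hc).1 ht
  have hχ : hPar D K c = 1 := by
    rw [← hcc, ← map_pow] at htk
    have h2 := torus_injective hc (htk.trans (map_one _).symm)
    funext i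
    refine Units.ext (sub_eq_zero.1
      (pow_eq_zero_iff (pow_ne_zero k (Fact.out : p.Prime).ne_zero) |>.1 ?_))
    rw [sub_pow_char_pow, Pi.one_apply, Units.val_one, one_pow, ← Units.val_pow_eq_pow_val,
      show hPar D K c i ^ p ^ k = 1 from congrFun h2 i, Units.val_one, sub_self]
  rw [← hcc, hχ, map_one, mul_one, posUnipotent_eq hc]
  exact hu

/-- The `p`-subgroups of the rational part are conjugate into `U`. -/
theorem Ctx.sylow_conj [Finite K] (p : ℕ) [Fact p.Prime] [CharP K p] {Q : Subgroup (GL D.Idx K)}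
    (hQ : Q ≤ ratGrp cx.hS φ) (hQp : IsPGroup p Q) :
    ∃ m ∈ ratGrp cx.hS φ, ∀ x ∈ Q, m * x * m⁻¹ ∈ D.posUnipotent K := by
  classical
  have hc := cx.hc
  set M := ratGrp cx.hS φ with hMdef
  set A : Subgroup ↥M := (D.posUnipotent K).subgroupOf M with hA
  have hAp : IsPGroup p A := by
    rw [hA, posUnipotent_eq hc]
    exact (isPGroup_pos hc p).comap_subtype
  have hmax : ∀ {R : Subgroup ↥M}, IsPGroup p R → A ≤ R → R = A := by
    intro R hR hAR
    by_contra hne
    have hlt : A.subgroupOf R < ⊤ :=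
      lt_top_iff_ne_top.2 fun h => hne (le_antisymm (Subgroup.subgroupOf_eq_top.1 h) hAR)
    haveI : Finite ↥R := inferInstance
    haveI : Group.IsNilpotent ↥R := hR.isNilpotent
    obtain ⟨g, hgN, hgQ⟩ :=
      SetLike.exists_of_lt ((Group.normalizerCondition_of_isNilpotent : NormalizerCondition ↥R) _ hlt)
    refine hgQ (Subgroup.mem_subgroupOf.2 (Subgroup.mem_subgroupOf.2 ?_))
    obtain ⟨k, hk⟩ := hR g
    refine cx.pos_of_borel p (cx.mem_borel_of_conj (g.1).2.1 fun i hi => ?_) ⟨k, ?_⟩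
    · obtain ⟨hsr, -⟩ := repNode_at hc cx.hS cx.hO hi
      obtain ⟨hsn, hsp⟩ := mem_repList hsr
      have haM : orbX cx.hS φ (D.simple i) 1 ∈ M :=
        cx.orbX_fix hsn (isPar_one φ _) (map_one φ)
      have haA : (⟨_, haM⟩ : ↥M) ∈ A :=
        Subgroup.mem_subgroupOf.2 (orbX_mem_pos hc cx.hS φ cx.hO hsn hsp 1)
      have h1 := (Subgroup.mem_normalizer_iff.1 hgN ⟨_, hAR haA⟩).1
        (Subgroup.mem_subgroupOf.2 haA)
      exact Subgroup.mem_subgroupOf.1 (Subgroup.mem_subgroupOf.1 h1)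
    · simpa using congrArg (fun z : ↥R => ((z : ↥M) : GL D.Idx K)) hk
  let SA : Sylow p ↥M := ⟨A, hAp, hmax⟩
  obtain ⟨R, hR⟩ := (hQp.comap_subtype (K := M) : IsPGroup p (Q.subgroupOf M)).exists_le_sylow
  obtain ⟨m, hm⟩ := MulAction.exists_smul_eq (↥M) R SA
  refine ⟨m, m.2, fun x hx => ?_⟩
  have h1 : MulAut.conj m • (⟨x, hQ hx⟩ : ↥M) ∈ ((m • R : Sylow p ↥M) : Subgroup ↥M) := by
    rw [Sylow.coe_subgroup_smul]
    exact Subgroup.smul_mem_pointwise_smul _ _ _ (hR (Subgroup.mem_subgroupOf.2 hx))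
  rw [hm] at h1
  exact Subgroup.mem_subgroupOf.1 h1

end

section
variable (cx : Ctx D T S P H φ) {X : Subgroup (GL D.Idx K)}
  (hMX : ratGrp cx.hS φ ≤ X) (hXG : X ≤ twistGrp cx.hS φ)
  (hU : X ⊓ D.posUnipotent K ≤ ratSub D φ)
include cx hMX hXG hU

theorem Ctx.pos_rat {g : GL D.Idx K} (hg : g ∈ X) (hgU : g ∈ D.posUnipotent K) :
    g ∈ ratGrp cx.hS φ :=
  ⟨hXG hg, hU ⟨hg, hgU⟩⟩

/-- The Borel part is rational. -/
theorem Ctx.borel_rat {b : GL D.Idx K} (hb : b ∈ X) (hbB : b ∈ D.borelSubgroup K) :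
    b ∈ ratGrp cx.hS φ := by
  have hc := cx.hc
  have hS := cx.hS
  have hH := TwistSym.htPos cx.hO
  obtain ⟨u, hu, t, ht, rfl⟩ := twistB_split hc hS φ cx.hO cx.hN cx.hcomm ⟨hbB, hXG hb⟩
  have htf := twistGrp_le_fixed hc hS φ ht.2
  obtain ⟨c, hcc⟩ := (mem_diagonal hc).1 ht.1
  set χ := hPar D K c with hχ
  have hrep : ∀ i ∈ S.repNodes,
      φ (chi χ (rv D T (D.simple i)) : K) = chi χ (rv D T (D.simple i)) := by
    intro i hi
    obtain ⟨hsr, hs1⟩ := repNode_at hc hS cx.hO hi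
    obtain ⟨hsn, hsp⟩ := mem_repList hsr
    set e := chi χ (rv D T (D.simple i)) with he
    have hconj : t * elX D K (D.simple i) 1 * t⁻¹ = elX D K (D.simple i) (e : K) := by
      rw [← hcc, torus_conj_elX hc _ hsn, mul_one]
    set a := orbX hS φ (D.simple i) (1 : K)
    have haM : a ∈ ratGrp cx.hS φ := cx.orbX_fix hsn (isPar_one φ _) (map_one φ)
    have haU : a ∈ D.posUnipotent K := orbX_mem_pos hc hS φ cx.hO hsn hsp 1
    have hta : t * a * t⁻¹ = orbX hS φ (D.simple i) (e : K) := conj_orbX hc hS φ htf hconj rfl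
    have hX : u * orbX hS φ (D.simple i) (e : K) * u⁻¹ ∈ X := by
      have := mul_mem (mul_mem hb (hMX haM)) (inv_mem hb)
      convert this using 1
      rw [← hta]
      group
    have hxU : orbX hS φ (D.simple i) (e : K) ∈ highU D T K 1 :=
      orbX_mem_highU hc hS cx.hO φ hsn hsp hs1.ge _
    have huU : u ∈ highU D T K 1 := cx.highU_one_iff.2 hu.1
    have hmem := hU ⟨hX, cx.highU_one_iff.1 (mul_mem (mul_mem huU hxU) (inv_mem huU))⟩
    obtain ⟨j, hj⟩ := exists_cv_ne_zero hc K hsn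
    have h1 := lead_rat hmem (D.simple i) j
    rw [(lead_conj hc hH cx.hcomm le_rfl huU hxU hsn hs1 j).2, cx.lead_self hsr, map_mul,
      map_intCast] at h1
    exact mul_left_cancel₀ hj h1
  have hall : ∀ j : Fin D.rank, φ (χ j : K) = χ j := by
    intro j
    obtain ⟨i, hi, k, -, hk⟩ := TwistSym.node_cover cx.hT j.2
    have hi' := (mem_repNodes hi).1
    obtain ⟨-, h1, -, h3, -⟩ := TwistSym.imgIter_simple hc hS hi' k
    have hsn := simple_lt hc hi'
    have hx := congrArg (⇑(twistSigma S hS φ))^[k]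
      (show t * elX D K (D.simple i) 1 * t⁻¹ =
        elX D K (D.simple i) (chi χ (rv D T (D.simple i)) : K) by
          rw [← hcc, torus_conj_elX hc _ hsn, mul_one])
    rw [iterate_map_mul, iterate_map_mul, iterate_map_inv, iter_fixed hc hS φ htf,
      twistSigma_iter_elX hc hS φ hsn, twistSigma_iter_elX hc hS φ hsn,
      Function.iterate_fixed (map_one φ), Function.iterate_fixed (hrep i hi), h3, hk,
      Int.cast_one, one_mul, one_mul, ← hcc, torus_conj_elX hc _ (simple_lt hc j.2), mul_one,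
      rv_simple hc, chi_single, zpow_one] at hx
    rw [elX_injective hc hS (simple_lt hc j.2) hx]
    exact hrep i hi
  have htM : t ∈ ratGrp cx.hS φ := by
    refine ⟨ht.2, ?_⟩
    show psi D φ t = t
    rw [← hcc, psi, CfsgLib.ChevField.glMap_torus]
    exact congrArg _ (funext fun j => Units.ext (hall j))
  have huX : u ∈ X := by
    have := mul_mem hb (inv_mem (hMX htM))
    rwa [mul_inv_cancel_right] at this
  exact mul_mem (cx.pos_rat hMX hXG hU huX hu.1) htM

/-- An element moved by the field automorphism within its coset of `B` is rational. -/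
theorem Ctx.rat_of_coset {g : GL D.Idx K} (hg : g ∈ X)
    (h : g⁻¹ * psi D φ g ∈ D.borelSubgroup K) : g ∈ ratGrp cx.hS φ := by
  have hc := cx.hc
  have hS := cx.hS
  have hgG := inv_mem (hXG hg)
  obtain ⟨u, hu, d, hd, L, v, hv, hk, e⟩ := fixed_bruhat hc cx.hcomm hS φ
    (twistGrp_le_group hc hS φ hgG) (twistGrp_le_fixed hc hS φ hgG)
  have hvrat : v ∈ ratSub D φ := rat_of_borel hc cx.hcomm hS φ hu.1 hd hv.1 (inv_mem h) (by
    rw [← e, map_inv]; group)
  have hvU : v ∈ D.posUnipotent K := by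
    rw [posUnipotent_eq hc]; exact uInv_le_pos hc L hv.1
  have hvM : v ∈ ratGrp cx.hS φ := ⟨cx.fixed_pos_le hvU hv.2, hvrat⟩
  have huk : u * (d * nProd D K L) ∈ X := by
    have := mul_mem (inv_mem hg) (inv_mem (hMX hvM))
    rwa [e, mul_inv_cancel_right] at this
  have huG : u ∈ twistGrp hS φ := cx.fixed_pos_le hu.1 hu.2
  have hkG : d * nProd D K L ∈ D.monomialSubgroup K ⊓ twistGrp hS φ := by
    refine ⟨mul_mem (diagonal_le_monomial hc hd) (nProd_mem_monomial hc L), ?_⟩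
    have := mul_mem (inv_mem huG) (hXG huk)
    rwa [inv_mul_cancel_left] at this
  rw [twistN_eq hc hS φ cx.hO cx.hN cx.hT (twistGrp_le_fixed hc hS φ)
    (fun i hi => nOrb_mem hc hS φ cx.hN hi)] at hkG
  have hnorm : Subgroup.closure (nOrb hS φ '' {i | i ∈ S.repNodes}) ≤
      Subgroup.normalizer ((D.diagonalSubgroup K ⊓ twistGrp hS φ : Subgroup _) : Set (GL D.Idx K)) := by
    refine (Subgroup.closure_le _).2 ?_
    rintro _ ⟨i, hi, rfl⟩
    have hi' := (mem_repNodes hi).1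
    have hm := nOrb_mem_monomial hc hS φ hi'
    have hG := nOrb_mem hc hS φ cx.hN hi'
    refine Subgroup.mem_normalizer_iff.2 fun x => ⟨fun hx => Subgroup.mem_inf.2 ⟨monomial_conj_diagonal hc hm hx.1,
      mul_mem (mul_mem hG (Subgroup.mem_inf.1 hx).2) (inv_mem hG)⟩, fun hx => ?_⟩
    have h1 := monomial_conj_diagonal hc (inv_mem hm) hx.1
    have hx2 : nOrb hS φ i * x * (nOrb hS φ i)⁻¹ ∈ twistGrp hS φ := hx.2
    have h2 := mul_mem (mul_mem (inv_mem hG) hx2) hG
    rw [inv_inv] at h1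
    simp only [mul_assoc, inv_mul_cancel_left, inv_mul_cancel, mul_one] at h1 h2
    exact ⟨h1, h2⟩
  have hkG' : d * nProd D K L ∈
      ((Subgroup.closure (nOrb hS φ '' {i | i ∈ S.repNodes}) ⊔
        (D.diagonalSubgroup K ⊓ twistGrp hS φ) : Subgroup (GL D.Idx K)) : Set (GL D.Idx K)) := hkG
  rw [Subgroup.coe_mul_of_left_le_normalizer_right _ _ hnorm] at hkG'
  obtain ⟨m, hm, t, ht, hmt⟩ := Set.mem_mul.1 hkG'
  have hmM : m ∈ ratGrp cx.hS φ := by
    refine ((Subgroup.closure_le _).2 ?_) hm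
    rintro _ ⟨i, hi, rfl⟩
    exact cx.nOrb_M (mem_repNodes hi).1
  have hmM' : m ∈ D.monomialSubgroup K := by
    refine ((Subgroup.closure_le _).2 ?_) hm
    rintro _ ⟨i, hi, rfl⟩
    exact nOrb_mem_monomial hc hS φ (mem_repNodes hi).1
  have hb : u * (m * t * m⁻¹) ∈ X := by
    have := mul_mem huk (inv_mem (hMX hmM))
    convert this using 1
    rw [← hmt]; group
  have hbB : u * (m * t * m⁻¹) ∈ D.borelSubgroup K :=
    mul_mem (pos_le_borel hc (cx.pos_mem hu.1))
      (diagonal_le_borel hc (monomial_conj_diagonal hc hmM' ht.1))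
  have h1 := mul_mem (mul_mem (cx.borel_rat hMX hXG hU hb hbB) hmM) hvM
  have h2 : u * (m * t * m⁻¹) * m * v = g⁻¹ := by rw [e, ← hmt]; group
  rw [h2] at h1
  simpa using inv_mem h1

end

end CfsgLib.TwistSub
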