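import Cfsg.Agent.Lib.TwistSub.Borel

/-!
The elements commuting with a highest root element are rational.
-/

set_option autoImplicit false
set_option linter.unusedSectionVars false

namespace CfsgLib.TwistSub

open Cfsg.Lie CfsgLib.Chev CfsgLib.Twisted CfsgLib.Chevalley

variable {D : ChevalleyDatum} {T : Tabs} {S : TwistSym D} {P : Spots} {H : List ℤ}
  {K : Type*} [Field K] {φ : K ≃+* K}

/-- The roots of positive level. -/
def Lev (D : ChevalleyDatum) (T : Tabs) (P : Spots) (r : ℕ) : Prop :=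
  inLevel D T P r = true

/-- The coefficient of a product of root elements of height at least `h`. -/
theorem lead_uProd (hc : Checked D T) (hH : HtPos D T) {L : List ℕ} (hnd : L.Nodup) {h : ℤ}
    (h1 : 1 ≤ h) (hL : ∀ s ∈ L, s < D.nroots ∧ D.nroots / 2 ≤ s ∧ h ≤ hgt D T s) (t : ℕ → K)
    {v : ℕ} (hv : v < D.nroots) (hvp : D.nroots / 2 ≤ v) (hvh : hgt D T v = h) (j : Fin D.rank) :
    lead (uProd D K L t) v j = if v ∈ L then (cv T v j : K) * t v else 0 := by
  rw [uProd, lead_list_prod hc h1 _ ?_ hv hvh, List.map_map, ← List.sum_toFinset _ hnd]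
  · have hterm : ∀ s ∈ L.toFinset, ((fun g => lead g v j) ∘ fun r => elX D K r (t r)) s =
        if s = v then (cv T v j : K) * t s else 0 := by
      intro s hs
      obtain ⟨g1, g2, g3⟩ := hL s (List.mem_toFinset.1 hs)
      exact lead_elX hc hH g1 g2 hv hvp (hvh ▸ g3) _ j
    rw [Finset.sum_congr rfl hterm, Finset.sum_ite_eq']
    simp only [List.mem_toFinset]
  · intro g hg
    obtain ⟨s, hs, rfl⟩ := List.mem_map.1 hg
    exact elX_mem_highU hc (hL s hs).1 (hL s hs).2.1 (hL s hs).2.2 _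

section
variable (cx : Ctx D T S P H φ)
include cx

theorem Ctx.levelSpec : Lev D T P P.θ ∧
    (∀ r, r < D.nroots → (Lev D T P r ↔ (r = P.θ ∨ ∃ w, w < D.nroots ∧
        rv D T P.θ = rv D T r + rv D T w)) ∧
      (Lev D T P (S.img r) ↔ Lev D T P r) ∧ (D.nroots / 2 ≤ r → 0 ≤ wt D T r P.nd)) ∧
    ∀ i : Fin D.rank, ∃ r s, r < D.nroots ∧ s < D.nroots ∧ Lev D T P r ∧ Lev D T P s ∧
      rv D T r = rv D T s + rv D T (D.simple i.1) := by
  have h := cx.hR
  simp only [rootTest, Bool.and_eq_true] at h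
  have h' := h.1.1.1.1.1.1.2
  simp only [levelTest, Bool.and_eq_true, List.all_eq_true, List.mem_range, decide_eq_true_eq,
    Bool.or_eq_true, List.any_eq_true] at h'
  obtain ⟨⟨hθ, hr⟩, hd⟩ := h'
  have hsum : ∀ {a b c : ℕ}, sumIs D T a b c = true → rv D T c = rv D T a + rv D T b := by
    intro a b c he
    simp only [sumIs, List.all_eq_true, List.mem_range, decide_eq_true_eq] at he
    exact funext fun j => he j j.2
  refine ⟨hθ, fun r hr' => ⟨?_, ?_, fun hp => (hr r hr').2.resolve_left (by omega)⟩, fun i => ?_⟩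
  · refine (hr r hr').1.1.trans (or_congr_right ⟨?_, ?_⟩)
    · rintro ⟨w, hw, e⟩
      exact ⟨w, hw, hsum e⟩
    · rintro ⟨w, hw, e⟩
      refine ⟨w, hw, ?_⟩
      simp only [sumIs, List.all_eq_true, List.mem_range, decide_eq_true_eq]
      exact fun j hj => congrFun e ⟨j, hj⟩
  · show inLevel D T P (S.img r) = true ↔ inLevel D T P r = true
    rw [(hr r hr').1.2]
  · obtain ⟨r, hr₁, hr₂, s, hs₁, hs₂, e⟩ := hd i i.2
    exact ⟨r, s, hr₁, hs₁, hr₂, hs₂, hsum e⟩

theorem Ctx.lev_pos {r : ℕ} (h : Lev D T P r) : D.nroots / 2 ≤ r ∧ 1 ≤ wt D T r P.nd := by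
  simpa [Lev, inLevel] using h

theorem Ctx.lev_up : UpSet D T (Lev D T P) := by
  refine ⟨fun r _ h => (cx.lev_pos h).1, fun r s v hr hs hl hp => ?_⟩
  have h0 := ((cx.levelSpec).2.1 s hs).2.2 hp
  obtain ⟨hrp, hr1⟩ := cx.lev_pos hl
  have key : ∀ a b : ℕ, D.nroots / 2 ≤ v → (1 ≤ a) → (1 ≤ b) →
      rv D T v = (a : ℤ) • rv D T r + (b : ℤ) • rv D T s → Lev D T P v := by
    intro a b hvp ha hb e
    have e' := congrFun e ⟨P.nd, cx.spot.1⟩
    simp only [rv, Pi.add_apply, Pi.smul_apply, smul_eq_mul] at e'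
    show inLevel D T P v = true
    simp only [inLevel, decide_eq_true_eq]
    refine ⟨hvp, ?_⟩
    have ha' : (1 : ℤ) ≤ (a : ℤ) := by exact_mod_cast ha
    have hb' : (0 : ℤ) ≤ (b : ℤ) := by positivity
    nlinarith
  constructor
  · intro hv
    have hvp := (closedPos_pos cx.hc).2 r s v hr hs hrp hp hv
    obtain ⟨-, a, b, ha, hb, e⟩ := hv
    exact key a b hvp ha hb e
  · intro hv
    have hvp := (closedPos_pos cx.hc).2 s r v hs hr hp hrp hv
    obtain ⟨-, a, b, ha, hb, e⟩ := hv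
    exact key b a hvp hb ha (by rw [e, add_comm])

/-- The roots of positive level of height at least `h` form a closed set. -/
theorem Ctx.closed_lev (h : ℤ) : ClosedPos D T (upTo D T (Lev D T P) h) := by
  have hH := TwistSym.htPos cx.hO
  refine ⟨fun r _ hq => (cx.lev_pos hq.1).1, fun r s v hr hs h1 h2 hv =>
    ⟨(cx.lev_up.2 r s v hr hs h1.1 (cx.lev_pos h2.1).1).1 hv, ?_⟩⟩
  have g2 := hH s hs (cx.lev_pos h2.1).1
  have := combRoot_hgt cx.hc hH (h' := 1) h1.2 g2 (hH r hr (cx.lev_pos h1.1).1) g2 hv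
  omega

theorem Ctx.lev_imgIter {r : ℕ} (hr : r < D.nroots) (k : ℕ) :
    Lev D T P (S.imgIter k r) ↔ Lev D T P r := by
  induction k with
  | zero => rfl
  | succ k ih => exact ((cx.levelSpec.2.1 _ (TwistSym.imgIter_lt cx.hS hr k)).2.1).trans ih

/-- The element on the orbit of `r`. -/
theorem Ctx.orbX_lev {r : ℕ} (hr : r ∈ S.repList) (hl : Lev D T P r) :
    orbX cx.hS φ r (1 : K) ∈ uGen D K (upTo D T (Lev D T P) (hgt D T r)) := by
  obtain ⟨hrn, hrp⟩ := mem_repList hr
  rw [orbX_eq_prod cx.hc cx.hS φ hrn]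
  refine Subgroup.list_prod_mem _ fun g hg => ?_
  obtain ⟨k, -, rfl⟩ := List.mem_map.1 hg
  exact elX_mem_uGen (TwistSym.imgIter_lt cx.hS hrn k) (P := upTo D T (Lev D T P) (hgt D T r))
    ⟨(cx.lev_imgIter hrn k).2 hl, (TwistSym.img_pos cx.hO cx.hS hrn hrp k).2.ge⟩ _

theorem Ctx.commute_theta (t : K) {u : GL D.Idx K}
    (hu : u ∈ uGen D K (fun r => D.nroots / 2 ≤ r)) : Commute (elX D K P.θ t) u := by
  have h := cx.hR
  simp only [rootTest, Bool.and_eq_true] at h
  have h' := h.1.1.1.1.1.2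
  simp only [centralTest, List.all_eq_true, List.mem_range, Bool.or_eq_true, Bool.and_eq_true,
    decide_eq_true_eq] at h'
  induction hu using Subgroup.closure_induction with
  | mem x hx =>
    obtain ⟨s, b, hs, hp, rfl⟩ := hx
    exact commute_of_terms cx.hc (TwistSym.htPos cx.hO) cx.hcomm cx.spot.2.1 hs
      (ne_neg_of_pos cx.hc hs hp cx.spot.2.2.1)
      (((h' s hs).resolve_left (by omega)).1.2) t b
  | one => exact Commute.one_right _
  | mul x y _ _ hx hy => exact hx.mul_right hy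
  | inv x _ hx => exact hx.inv_right

/-- The Bruhat expression of an element commuting with a highest root element. -/
theorem Ctx.bruhat_theta {g : GL D.Idx K} (hg : g ∈ D.group K) {t : K} (ht : t ≠ 0)
    (h : Commute g (elX D K P.θ t)) :
    ∃ u ∈ uGen D K (fun r => D.nroots / 2 ≤ r), ∃ d ∈ D.diagonalSubgroup K,
      ∃ L : List (Fin D.rank), ∃ v ∈ uGen D K (fun r => D.nroots / 2 ≤ r),
        g = u * (d * nProd D K L) * v ∧ sigs D T L P.θ = P.θ := by
  have hc := cx.hc
  have hθ := cx.spot.2.1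
  obtain ⟨u, hu, d, hd, L, v, hv, rfl⟩ := exists_bruhat hc cx.hcomm hg
  have hv' := uInv_le_pos hc L hv
  refine ⟨u, hu, d, hd, L, v, hv', rfl, ?_⟩
  have h1 : nProd D K L * elX D K P.θ t * (nProd D K L)⁻¹ = d⁻¹ * elX D K P.θ t * d := by
    have ev := (cx.commute_theta t hv').eq
    have eu := (cx.commute_theta t hu).eq
    calc nProd D K L * elX D K P.θ t * (nProd D K L)⁻¹
        = d⁻¹ * u⁻¹ * ((u * (d * nProd D K L) * v) * elX D K P.θ t) * v⁻¹ * (nProd D K L)⁻¹ := by
          rw [mul_assoc (u * (d * nProd D K L)) v, ← ev]; group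
      _ = d⁻¹ * u⁻¹ * (elX D K P.θ t * (u * (d * nProd D K L) * v)) * v⁻¹ * (nProd D K L)⁻¹ := by
          rw [h.eq]
      _ = d⁻¹ * u⁻¹ * (u * elX D K P.θ t) * d := by rw [← eu]; group
      _ = _ := by group
  obtain ⟨c, -, hcx⟩ := nProd_conj_elX hc (F := K) L hθ
  obtain ⟨e, he⟩ := diagonal_conj_elX hc (inv_mem hd) hθ
  have he' := he t
  rw [inv_inv] at he'
  rw [hcx, he'] at h1
  exact elX_root_unique hc (sigs_lt hc L hθ) hθ (mul_ne_zero c.ne_zero ht) h1

theorem Ctx.lev_sigs {L : List (Fin D.rank)} (hθ : sigs D T L P.θ = P.θ) {r : ℕ}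
    (hr : r < D.nroots) (hl : Lev D T P r) : Lev D T P (sigs D T L r) := by
  have hc := cx.hc
  refine (cx.levelSpec.2.1 _ (sigs_lt hc L hr)).1.2 ?_
  rcases (cx.levelSpec.2.1 r hr).1.1 hl with rfl | ⟨w, hw, e⟩
  · exact Or.inl hθ
  · refine Or.inr ⟨sigs D T L w, sigs_lt hc L hw, ?_⟩
    rw [rv_sigs hc L hr, rv_sigs hc L hw, ← refls_add, ← e, ← rv_sigs hc L cx.spot.2.1, hθ]

theorem Ctx.conj_lev {t : K} (ht : t ≠ 0) {g : GL D.Idx K} (hg : g ∈ D.group K)
    (h : Commute g (elX D K P.θ t)) {k : ℤ} {a : GL D.Idx K}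
    (ha : a ∈ uGen D K (upTo D T (Lev D T P) k)) : g * a * g⁻¹ ∈ uGen D K (Lev D T P) := by
  have hc := cx.hc
  have hH := TwistSym.htPos cx.hO
  obtain ⟨u, hu, d, hd, L, v, hv, rfl, hθ⟩ := cx.bruhat_theta hg ht h
  have hQ : ∀ r, r < D.nroots → (upTo D T (Lev D T P) 1 r ↔ Lev D T P r) := fun r hr =>
    ⟨fun e => e.1, fun e => ⟨e, hH r hr (cx.lev_pos e).1⟩⟩
  have ha' : a ∈ uGen D K (upTo D T (Lev D T P) 1) :=
    uGen_mono (fun r hr e => (hQ r hr).2 e.1) ha
  have h1 := (conj_upTo hc hH cx.hcomm cx.lev_up hv ha').1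
  have h2 : d * (nProd D K L * (v * a * v⁻¹) * (nProd D K L)⁻¹) * d⁻¹ ∈
      uGen D K (upTo D T (Lev D T P) 1) := by
    refine diag_conj_mem hc _ hd ?_
    generalize v * a * v⁻¹ = w at h1
    induction h1 using Subgroup.closure_induction with
    | mem x hx =>
      obtain ⟨r, b, hr, hl, rfl⟩ := hx
      obtain ⟨c, -, hcx⟩ := nProd_conj_elX hc (F := K) L hr
      rw [hcx]
      exact elX_mem_uGen (sigs_lt hc L hr) (P := upTo D T (Lev D T P) 1)
        ((hQ _ (sigs_lt hc L hr)).2 (cx.lev_sigs hθ hr hl.1)) _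
    | one => simp
    | mul x y _ _ hx hy =>
      rw [show ∀ n : GL D.Idx K, n * (x * y) * n⁻¹ = (n * x * n⁻¹) * (n * y * n⁻¹) from
        fun n => by group]
      exact mul_mem hx hy
    | inv x _ hx =>
      rw [show ∀ n : GL D.Idx K, n * x⁻¹ * n⁻¹ = (n * x * n⁻¹)⁻¹ from fun n => by group]
      exact inv_mem hx
  rw [← uGen_congr hQ]
  have h3 := (conj_upTo hc hH cx.hcomm cx.lev_up hu h2).1
  convert h3 using 1
  group

/-- An element commuting with all elements on the orbits of positive level lies in `B`. -/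
theorem Ctx.borel_of_level {c : GL D.Idx K} (hcG : c ∈ D.group K)
    (h : ∀ r ∈ S.repList, Lev D T P r → Commute c (orbX cx.hS φ r 1)) :
    c ∈ D.borelSubgroup K := by
  classical
  have hc := cx.hc
  have hS := cx.hS
  have hH := TwistSym.htPos cx.hO
  obtain ⟨hθn, hθp, hθi⟩ := cx.spot.2.1, cx.spot.2.2.1, cx.spot.2.2.2.1
  have hθrep : P.θ ∈ S.repList := by
    obtain ⟨-, -, r₀, hr₀, k, -, e⟩ := TwistSym.pos_spec cx.hO hθn hθp
    have : r₀ = P.θ := by
      have hn := (mem_repList hr₀).1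
      induction k with
      | zero => exact e
      | succ k ih =>
        exact ih (TwistSym.img_inj hS (TwistSym.imgIter_lt hS hn k) hθn (e.trans hθi.symm))
    exact this ▸ hr₀
  have hz : orbX hS φ P.θ (1 : K) = elX D K P.θ 1 := by
    rw [orbX, show S.olen P.θ = 1 from if_pos hθi, orbProd_one]
  obtain ⟨u, hu, d, hd, L, v, hv, rfl, hθ⟩ :=
    cx.bruhat_theta hcG one_ne_zero (hz ▸ h P.θ hθrep cx.levelSpec.1)
  have up : ∀ r, r < D.nroots → Lev D T P r → hgt D T r ≤ hgt D T (sigs D T L r) := by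
    intro r hr hl
    obtain ⟨hrp, -⟩ := cx.lev_pos hl
    obtain ⟨-, -, r₀, hr₀, k₀, hk₀, e⟩ := TwistSym.pos_spec cx.hO hr hrp
    obtain ⟨hn₀, hp₀⟩ := mem_repList hr₀
    have hl₀ : Lev D T P r₀ := (cx.lev_imgIter hn₀ k₀).1 (e ▸ hl)
    have hh : hgt D T r = hgt D T r₀ := e ▸ (TwistSym.img_pos cx.hO hS hn₀ hp₀ k₀).2
    set a := orbX hS φ r₀ (1 : K) with ha
    have haQ := cx.orbX_lev hr₀ hl₀
    rw [← hh] at haQ
    have hw := (conj_upTo hc hH cx.hcomm cx.lev_up hv haQ).1
    have hu' := (conj_upTo hc hH cx.hcomm cx.lev_up hu haQ).2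
    have h1 : (1 : ℤ) ≤ hgt D T r := hH r hr hrp
    have hle : uGen D K (upTo D T (Lev D T P) (hgt D T r)) ≤ highU D T K (hgt D T r) :=
      uGen_mono fun s _ hs => ⟨(cx.lev_pos hs.1).1, hs.2⟩
    obtain ⟨t, htw⟩ := uGen_exists hc cx.hcomm (cx.closed_lev _) hw
    set R := rootsFrom D (upTo D T (Lev D T P) (hgt D T r)) 0 with hR
    have hnd : R.Nodup := (List.nodup_range' ..).filter _
    have hRs : ∀ s ∈ R, s < D.nroots ∧ D.nroots / 2 ≤ s ∧ hgt D T r ≤ hgt D T s := fun s hs => by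
      obtain ⟨-, g1, g2⟩ := mem_rootsFrom.1 hs
      exact ⟨g1, (cx.lev_pos g2.1).1, g2.2⟩
    obtain ⟨j, hj⟩ := exists_cv_ne_zero hc K hr
    have hv1 : v ∈ highU D T K 1 := by
      rw [highU_one hc hH, posUnipotent_eq hc]; exact hv
    have hrR : r ∈ R := mem_rootsFrom.2 ⟨Nat.zero_le _, hr, hl, le_rfl⟩
    have htr : t r ≠ 0 := by
      intro h0
      have e1 := (lead_conj hc hH cx.hcomm h1 hv1 (hle haQ) hr rfl j).2
      rw [htw, lead_uProd hc hH hnd h1 hRs t hr hrp rfl, if_pos hrR, h0, mul_zero,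
        lead_orbX hc hS cx.hO φ hr₀ hh.symm hr₀ hk₀ e rfl, if_pos rfl,
        Function.iterate_fixed (map_one φ), mul_one] at e1
      rcases mul_eq_zero.1 e1.symm with e2 | e2
      · exact hj e2
      · have hsq : (S.sgnIter k₀ r₀ : K) ≠ 0 := by
          clear e hk₀ e1 e2
          induction k₀ with
          | zero => simp [TwistSym.sgnIter]
          | succ k ih =>
            rw [TwistSym.sgnIter, Int.cast_mul]
            refine mul_ne_zero ?_ ih
            rcases sgn_cast hc (K := K) hS (TwistSym.imgIter_lt hS hn₀ k) with e | e <;> simp [e]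
        exact hsq e2
    -- the least height of an image
    set F := R.toFinset.filter fun s => t s ≠ 0 with hF
    obtain ⟨s₀, hs₀, hmin⟩ := Finset.exists_min_image F (fun s => hgt D T (sigs D T L s))
      ⟨r, Finset.mem_filter.2 ⟨List.mem_toFinset.2 hrR, htr⟩⟩
    by_contra hlt
    push Not at hlt
    have hs₀R : s₀ ∈ R := List.mem_toFinset.1 (Finset.mem_filter.1 hs₀).1
    have hσ : ∀ s ∈ R, sigs D T L s < D.nroots ∧ D.nroots / 2 ≤ sigs D T L s := fun s hs => by
      obtain ⟨-, g1, g2⟩ := mem_rootsFrom.1 hs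
      exact ⟨sigs_lt hc L g1, (cx.lev_pos (cx.lev_sigs hθ g1 g2.1)).1⟩
    set x := sigs D T L s₀ with hx
    obtain ⟨hxn, hxp⟩ := hσ s₀ hs₀R
    have hxlt : hgt D T x < hgt D T r :=
      lt_of_le_of_lt (hmin r (Finset.mem_filter.2 ⟨List.mem_toFinset.2 hrR, htr⟩)) hlt
    have hk : ∀ s ∈ R, ∃ cs : Kˣ, ∀ b, d * nProd D K L * elX D K s b * (d * nProd D K L)⁻¹ =
        elX D K (sigs D T L s) ((cs : K) * b) := by
      intro s hs
      obtain ⟨c₁, -, hc₁⟩ := nProd_conj_elX hc (F := K) L (hRs s hs).1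
      obtain ⟨c₂, hc₂⟩ := diagonal_conj_elX hc hd (hσ s hs).1
      refine ⟨c₂ * c₁, fun b => ?_⟩
      rw [Units.val_mul, mul_assoc (c₂ : K), ← hc₂, ← hc₁]
      group
    choose! cs hcs using hk
    have hkw : d * nProd D K L * (v * a * v⁻¹) * (d * nProd D K L)⁻¹ = u⁻¹ * a * u := by
      have := (h r₀ hr₀ hl₀).eq
      calc d * nProd D K L * (v * a * v⁻¹) * (d * nProd D K L)⁻¹
          = u⁻¹ * ((u * (d * nProd D K L) * v) * a) * (u * (d * nProd D K L) * v)⁻¹ * u := by group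
        _ = u⁻¹ * (a * (u * (d * nProd D K L) * v)) * (u * (d * nProd D K L) * v)⁻¹ * u := by
            rw [this]
        _ = _ := by group
    obtain ⟨j', hj'⟩ := exists_cv_ne_zero hc K hxn
    have hzero : lead (u⁻¹ * a * u) x j' = 0 :=
      lead_high hc hH h1 (hle hu') hxn hxlt j'
    have hprod : ∀ (R' : List ℕ), (∀ s ∈ R', s ∈ R) →
        d * nProd D K L * uProd D K R' t * (d * nProd D K L)⁻¹ =
          (R'.map fun s => elX D K (sigs D T L s) ((cs s : K) * t s)).prod := by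
      intro R'
      induction R' with
      | nil => intro _; simp [uProd]
      | cons s R' ih =>
        intro hsub
        rw [List.forall_mem_cons] at hsub
        rw [List.map_cons, List.prod_cons, ← ih hsub.2, ← hcs s hsub.1, uProd, List.map_cons,
          List.prod_cons, uProd]
        group
    have hfac : ∀ g ∈ R.map (fun s => elX D K (sigs D T L s) ((cs s : K) * t s)),
        g ∈ highU D T K (hgt D T x) := by
      intro g hg
      obtain ⟨s, hs, rfl⟩ := List.mem_map.1 hg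
      by_cases h0 : t s = 0
      · rw [h0, mul_zero, elX_zero hc K (hσ s hs).1]; exact one_mem _
      · exact elX_mem_highU hc (hσ s hs).1 (hσ s hs).2
          (hmin s (Finset.mem_filter.2 ⟨List.mem_toFinset.2 hs, h0⟩)) _
    rw [← hkw, htw, hprod R (fun _ hs => hs), lead_list_prod hc (hH x hxn hxp) _ hfac hxn rfl,
      List.map_map, ← List.sum_toFinset _ hnd, Finset.sum_eq_single s₀] at hzero
    · simp only [Function.comp_apply] at hzero
      rw [lead_elX hc hH hxn hxp hxn hxp le_rfl, if_pos rfl] at hzero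
      exact mul_ne_zero hj' (mul_ne_zero (cs s₀).ne_zero (Finset.mem_filter.1 hs₀).2) hzero
    · intro s hs hne
      rw [List.mem_toFinset] at hs
      simp only [Function.comp_apply]
      by_cases h0 : t s = 0
      · rw [h0, mul_zero, elX_zero hc K (hσ s hs).1, lead_one hc hxn]
      · rw [lead_elX hc hH (hσ s hs).1 (hσ s hs).2 hxn hxp
          (hmin s (Finset.mem_filter.2 ⟨List.mem_toFinset.2 hs, h0⟩)),
          if_neg fun e => hne (sigs_injOn hc L (hRs s hs).1 (hRs s₀ hs₀R).1 e)]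
    · exact fun hnot => absurd (List.mem_toFinset.2 hs₀R) hnot
  set Q := (Finset.range D.nroots).filter (fun r => Lev D T P r) with hQ
  have hQm : ∀ r ∈ Q, r < D.nroots ∧ Lev D T P r := fun r hr => by simpa [hQ] using hr
  have hinj : Set.InjOn (fun r => sigs D T L r) (Q : Set ℕ) := fun a ha b hb e =>
    sigs_injOn hc L (hQm a ha).1 (hQm b hb).1 e
  have himg : Q.image (fun r => sigs D T L r) = Q := by
    refine Finset.eq_of_subset_of_card_le (fun x hx => ?_) (Finset.card_image_of_injOn hinj).ge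
    obtain ⟨a, ha, rfl⟩ := Finset.mem_image.1 hx
    simpa [hQ] using ⟨sigs_lt hc L (hQm a ha).1, cx.lev_sigs hθ (hQm a ha).1 (hQm a ha).2⟩
  have hsum : ∑ r ∈ Q, hgt D T (sigs D T L r) = ∑ r ∈ Q, hgt D T r := by
    conv_rhs => rw [← himg, Finset.sum_image hinj]
  have heq : ∀ r, r < D.nroots → Lev D T P r → hgt D T (sigs D T L r) = hgt D T r := by
    intro r hr hl
    exact ((Finset.sum_eq_sum_iff_of_le fun s hs => up s (hQm s hs).1 (hQm s hs).2).1
      hsum.symm r (by simp [hQ, hr, hl])).symm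
  have hall : ∀ i : Fin D.rank, D.nroots / 2 ≤ sigs D T L (D.simple i.1) := by
    intro i
    obtain ⟨r, s, hr, hs, hlr, hls, e⟩ := cx.levelSpec.2.2 i
    have hp := simple_lt hc i.2
    have h1 : hgt D T (sigs D T L (D.simple i.1)) = 1 := by
      have e' := congrArg (refls D L) e
      rw [refls_add, ← rv_sigs hc L hr, ← rv_sigs hc L hs, ← rv_sigs hc L hp] at e'
      have e1 := congrArg (htLin D) e'
      have e2 := congrArg (htLin D) e
      rw [htLin_add] at e1 e2
      have hsi : htLin D (rv D T (D.simple i.1)) = 1 := by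
        rw [rv_simple hc]; simp [htLin, Finset.sum_pi_single']
      have g1 := heq r hr hlr
      have g2 := heq s hs hls
      simp only [hgt] at g1 g2 ⊢
      omega
    by_contra hneg
    have hσn := sigs_lt hc L hp
    have hnp : D.nroots / 2 ≤ D.neg (sigs D T L (D.simple i.1)) := by
      have := neg_eq hc hσn; have := nroots_eq_two_mul hc; omega
    have h2 := hH _ (neg_lt hc hσn) hnp
    rw [hgt, rv_neg hc hσn, htLin_neg] at h2
    rw [hgt] at h1
    omega
  exact mul_mem (mul_mem (pos_le_borel hc hu)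
    (mul_mem (diagonal_le_borel hc hd) (diagonal_le_borel hc (nProd_mem_of_pos hc L hall))))
    (pos_le_borel hc hv)

variable {X : Subgroup (GL D.Idx K)}
  (hMX : ratGrp cx.hS φ ≤ X) (hXG : X ≤ twistGrp cx.hS φ)
  (hU : X ⊓ D.posUnipotent K ≤ ratSub D φ)
include hMX hXG hU

/-- The centraliser of a highest root element is rational. -/
theorem Ctx.cent_theta {g : GL D.Idx K} (hg : g ∈ X) {t : K} (ht : t ≠ 0) (hft : φ t = t)
    (h : Commute g (elX D K P.θ t)) : g ∈ ratGrp cx.hS φ := by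
  have hc := cx.hc
  have hS := cx.hS
  have hgg := twistGrp_le_group hc hS φ (hXG hg)
  refine cx.rat_of_coset hMX hXG hU hg (cx.borel_of_level ?_ fun r hr hl => ?_)
  · exact mul_mem (inv_mem hgg) (twistGrp_le_group hc hS φ (psi_twistGrp hc hS φ (hXG hg)))
  obtain ⟨hrn, hrp⟩ := mem_repList hr
  set a := orbX hS φ r (1 : K)
  have haM : a ∈ ratGrp cx.hS φ := cx.orbX_fix hrn (isPar_one φ _) (map_one φ)
  have hmem : g * a * g⁻¹ ∈ X := mul_mem (mul_mem hg (hMX haM)) (inv_mem hg)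
  have hpos : g * a * g⁻¹ ∈ D.posUnipotent K := by
    rw [posUnipotent_eq hc]
    exact uGen_mono (fun s _ hs => (cx.lev_pos hs).1)
      (cx.conj_lev ht hgg h (cx.orbX_lev hr hl))
  have hrat := mem_ratSub.1 (hU ⟨hmem, hpos⟩)
  rw [map_mul, map_mul, map_inv, show psi D φ a = a from haM.2] at hrat
  show g⁻¹ * psi D φ g * a = a * (g⁻¹ * psi D φ g)
  calc g⁻¹ * psi D φ g * a = g⁻¹ * (psi D φ g * a * (psi D φ g)⁻¹) * psi D φ g := by group
    _ = g⁻¹ * (g * a * g⁻¹) * psi D φ g := by rw [hrat]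
    _ = _ := by group

end

end CfsgLib.TwistSub
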