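import Cfsg.Agent.Lib.TwistSub.Comm
import Cfsg.Agent.Lib.Twisted.Simple

/-!
The facts on the root tables used for the subfield subgroups of a twisted group, as decidable tests.
-/

set_option autoImplicit false
set_option linter.unusedSectionVars false

namespace CfsgLib.TwistSub

open Cfsg.Lie CfsgLib.Chev CfsgLib.Twisted

/-- The roots used: the adjacent node, the highest root, its neighbour, the highest short root. -/
structure Spots where
  nd : ℕ
  θ : ℕ
  β : ℕ
  top : ℕ

variable (D : ChevalleyDatum) (T : Tabs) (S : TwistSym D) (P : Spots)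

/-- `v = r + w` on weights. -/
noncomputable def sumIs (r w v : ℕ) : Bool :=
  (List.range D.rank).all fun j => decide (wt D T v j = wt D T r j + wt D T w j)

/-- the roots of positive level -/
noncomputable def inLevel (r : ℕ) : Bool :=
  decide (D.nroots / 2 ≤ r ∧ 1 ≤ wt D T r P.nd)

/-- A fixed root is the highest, commutes with it, pairs with it to a fixed root, or is its
negative. -/
noncomputable def caseTest (γ : ℕ) : Bool :=
  decide (γ = P.θ) ||
  decide (γ = D.neg P.θ) ||
  decide (D.commTerms P.θ γ = []) ||
  (List.range D.nroots).any fun v =>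
    decide (D.nroots / 2 ≤ v ∧ S.img v = v ∧ v ≠ D.neg γ ∧ v ≠ γ ∧ v ≠ D.neg P.θ ∧
      D.commTerms v P.θ = [] ∧ D.commTerms v γ = [] ∧
      ((D.commTerms γ P.θ).map fun c => (c.1, c.2.2)) = [(v, 1, 1)] ∧
      ((D.commTerms γ P.θ).map fun c => c.2.1.natAbs) = [1])

/-- A fixed positive root below the highest can be raised by a node. -/
noncomputable def climbTest (γ : ℕ) : Bool :=
  decide (γ = P.θ) ||
  S.repNodes.any fun i =>
    decide (D.nroots / 2 ≤ S.wO i γ ∧ hgtC D T γ < hgtC D T (S.wO i γ) ∧ D.simple i ≠ γ) &&
    (List.range D.nroots).any fun v =>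
      decide (D.nroots / 2 ≤ v ∧ hgtC D T v = hgtC D T γ + hgtC D T (D.simple i) ∧
        (nco D (D.simple i) γ v).natAbs = 1 ∧ sumIs D T (D.simple i) γ v = true)

/-- The contributions at `v` of a height to the commutator with the orbit of a node. -/
noncomputable def contribs (r i v : ℕ) : List (ℕ × ℕ × ℤ) :=
  ((S.repList.filter fun r' => decide (hgtC D T r' = hgtC D T r)).flatMap fun r' =>
    (List.range (S.olen r')).flatMap fun k =>
      (List.range (S.olen (D.simple i))).map fun j =>
        (r', k, nco D (S.imgIter k r') (S.imgIter j (D.simple i)) v * S.sgnIter k r' *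
          S.sgnIter j (D.simple i))).filter fun c => decide (c.2.2 ≠ 0)

/-- The accepted patterns of contributions: one unit, or two equal units in an orbit of three. -/
def goodContribs (r : ℕ) : List (ℕ × ℕ × ℤ) → Bool
  | [(r', _, e)] => decide (r' = r ∧ e.natAbs = 1)
  | [(r', k, e), (r'', k', e')] =>
    decide (r' = r ∧ r'' = r ∧ e.natAbs = 1 ∧ e' = e ∧ S.d = 3 ∧ k < k' ∧ k' < 3)
  | _ => false

/-- A short root below the top can be raised. -/
noncomputable def stepTest (r : ℕ) : Bool :=
  decide (S.olen r = 1) || decide (r = P.top) ||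
  (decide (hgtC D T r < hgtC D T P.top) &&
    S.repNodes.any fun i => (List.range D.nroots).any fun v =>
      decide (D.nroots / 2 ≤ v ∧ hgtC D T v = hgtC D T r + 1) &&
      goodContribs D S r (contribs D T S r i v) &&
      (S.repList.filter fun r' => decide (hgtC D T r' = hgtC D T r)).all fun r' =>
        (List.range (S.olen r')).all fun k => (List.range (S.olen (D.simple i))).all fun j =>
          decide (S.imgIter k r' = S.imgIter j (D.simple i) →
            nco D (S.imgIter k r') (S.imgIter j (D.simple i)) v = 0))

/-- The distinguished roots. -/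
noncomputable def spotTest : Bool :=
  decide (P.nd < D.rank ∧ P.θ < D.nroots ∧ D.nroots / 2 ≤ P.θ ∧ S.img P.θ = P.θ ∧
    P.β < D.nroots ∧ D.nroots / 2 ≤ P.β ∧ S.img P.β = P.β ∧ P.β ≠ P.θ ∧ P.top ∈ S.repList ∧
    S.img P.top ≠ P.top)

/-- The roots of positive level: those which pair to the highest root, a stable set closed upwards
whose differences give the fundamental roots. -/
noncomputable def levelTest : Bool :=
  inLevel D T P P.θ &&
  ((List.range D.nroots).all fun r =>
    decide (inLevel D T P r = true ↔
      (r = P.θ ∨ ∃ w ∈ List.range D.nroots, sumIs D T r w P.θ = true)) &&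
    decide (inLevel D T P (S.img r) = inLevel D T P r) &&
    (decide (r < D.nroots / 2) || decide (0 ≤ wt D T r P.nd))) &&
  (List.range D.rank).all fun i => (List.range D.nroots).any fun r =>
    inLevel D T P r && (List.range D.nroots).any fun s =>
      inLevel D T P s && sumIs D T s (D.simple i) r

/-- The highest root is central, its neighbour is central modulo it. -/
noncomputable def centralTest : Bool :=
  (List.range D.nroots).all fun s => decide (s < D.nroots / 2) ||
    (decide (D.commTerms P.θ s = [] ∧ D.commTerms s P.θ = []) &&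
      (D.commTerms s P.β).all fun c => decide (c.1 = P.θ))

/-- The negative of the highest root against its neighbour. -/
noncomputable def negTest : Bool :=
  (List.range D.nroots).any fun v =>
    decide (v = D.neg (D.simple P.nd) ∧ S.img v = v ∧ v ≠ D.neg P.β ∧ v ≠ P.β ∧ v ≠ P.θ ∧
      D.commTerms P.β v = [] ∧ D.commTerms v (D.neg P.θ) = [] ∧
      ((D.commTerms (D.neg P.θ) P.β).map fun c => (c.1, c.2.2)) = [(v, 1, 1)] ∧
      ((D.commTerms (D.neg P.θ) P.β).map fun c => c.2.1.natAbs) = [1])

/-- All tests on the roots. -/
noncomputable def rootTest : Bool :=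
  spotTest D S P && levelTest D T S P && centralTest D P && negTest D S P &&
  ((List.range D.nroots).all fun γ => decide (S.img γ ≠ γ) || caseTest D S P γ) &&
  ((List.range D.nroots).all fun γ =>
    decide (S.img γ ≠ γ ∨ γ < D.nroots / 2) || climbTest D T S P γ) &&
  (S.repList.all fun r => stepTest D T S P r) &&
  (S.repList.all fun r => decide (hgtC D T r < hgtC D T P.top ∨ r = P.top ∨ S.olen r = 1))

/-- Every root of a node of a long orbit is carried into the top orbit by a word. -/
noncomputable def genTest (words : List (List ℕ)) : Bool :=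
  (List.range D.rank).all fun i =>
    decide (S.olen (D.simple i) = 1) ||
    ([D.simple i, D.neg (D.simple i)].all fun r => words.any fun W =>
      (W.all fun j => decide (j < D.rank)) &&
      (List.range S.d).any fun k => decide (S.wWord W r = S.imgIter k P.top))

end CfsgLib.TwistSub
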