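import Cfsg.Agent.Lib.TwistSub.Cent

/-!
A rational conjugate of a highest root element has rational centraliser.
-/

set_option autoImplicit false
set_option linter.unusedSectionVars false

namespace CfsgLib.TwistSub

open Cfsg.Lie CfsgLib.Chev CfsgLib.Twisted CfsgLib.Chevalley

variable {D : ChevalleyDatum} {T : Tabs} {S : TwistSym D} {P : Spots} {H : List ℤ}
  {K : Type*} [Field K] {φ : K ≃+* K}

/-- A non-zero leading coefficient comes from the sum of the two roots. -/
theorem nco_weight (hc : Checked D T) (hH : HtPos D T) {r s v : ℕ} (hr : r < D.nroots)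
    (hrp : D.nroots / 2 ≤ r) (hs : s < D.nroots) (hsp : D.nroots / 2 ≤ s)
    (hvh : hgt D T v = hgt D T r + hgt D T s) (h : nco D r s v ≠ 0) :
    rv D T v = rv D T r + rv D T s := by
  have hex : ∃ c ∈ D.commTerms s r, c.1 = v := by
    by_contra hne
    refine h (List.sum_eq_zero fun x hx => ?_)
    obtain ⟨c, hc', rfl⟩ := List.mem_map.1 hx
    exact if_neg fun e => hne ⟨c, hc', e⟩
  obtain ⟨c, hc', rfl⟩ := hex
  obtain ⟨-, g2, g3, g4⟩ := commTerms_weight hc hs hr c hc'
  have h1 := hH r hr hrp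
  have h2 := hH s hs hsp
  have e3 : hgt D T c.1 = (c.2.2.1 : ℤ) * hgt D T s + (c.2.2.2 : ℤ) * hgt D T r := by
    simp only [hgt, g4, htLin_add, htLin_smul]
  have i1 : (1 : ℤ) ≤ (c.2.2.1 : ℤ) := by exact_mod_cast g2
  have j1 : (1 : ℤ) ≤ (c.2.2.2 : ℤ) := by exact_mod_cast g3
  have i2 : (c.2.2.1 : ℤ) = 1 := by nlinarith
  have j2 : (c.2.2.2 : ℤ) = 1 := by nlinarith
  rw [g4, i2, j2, one_smul, one_smul, add_comm]

section
variable (cx : Ctx D T S P H φ)
include cx

theorem Ctx.sgn_fixed {r : ℕ} (hr : r < D.nroots) (hi : S.img r = r) : S.sgn r = 1 := by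
  have := (TwistSym.orbit_spec cx.hS hr).2.1
  rw [show S.olen r = 1 from if_pos hi] at this
  simpa [TwistSym.sgnIter, TwistSym.imgIter] using this

theorem Ctx.orbX_one {r : ℕ} (hi : S.img r = r) (t : K) :
    orbX cx.hS φ r t = elX D K r t := by
  rw [orbX, show S.olen r = 1 from if_pos hi, orbProd_one]

theorem Ctx.par_one {r : ℕ} (hi : S.img r = r) {t : K} (ht : φ t = t) : IsPar S φ r t := by
  rw [IsPar, show S.olen r = 1 from if_pos hi, Function.iterate_one, ht]

theorem Ctx.elX_M {r : ℕ} (hr : r < D.nroots) (hi : S.img r = r) {t : K} (ht : φ t = t) :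
    elX D K r t ∈ ratGrp cx.hS φ := by
  rw [← cx.orbX_one hi]; exact cx.orbX_fix hr (cx.par_one hi ht) ht

theorem Ctx.fix_of_elX {r : ℕ} (hr : r < D.nroots) (hi : S.img r = r) {t : K}
    (h : elX D K r t ∈ fixedSub S cx.hS φ) : φ t = t := by
  rw [mem_fixedSub, twistSigma_elX cx.hc cx.hS φ hr, cx.sgn_fixed hr hi, hi, Int.cast_one,
    one_mul] at h
  exact elX_injective cx.hc cx.hS hr h

theorem Ctx.rep_of_fixed {r : ℕ} (hr : r < D.nroots) (hp : D.nroots / 2 ≤ r) (hi : S.img r = r) :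
    r ∈ S.repList := by
  obtain ⟨-, -, r₀, hr₀, k, -, e⟩ := TwistSym.pos_spec cx.hO hr hp
  have : r₀ = r := by
    have hn := (mem_repList hr₀).1
    induction k with
    | zero => exact e
    | succ k ih =>
      exact ih (TwistSym.img_inj cx.hS (TwistSym.imgIter_lt cx.hS hn k) hr (e.trans hi.symm))
  exact this ▸ hr₀

theorem Ctx.elX_pow {r : ℕ} (hr : r < D.nroots) (t : K) (n : ℕ) :
    elX D K r t ^ n = elX D K r (n * t) := by
  induction n with
  | zero => simp [elX_zero cx.hc K hr]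
  | succ n ih => rw [pow_succ, ih, elX_add cx.hc K hr]; congr 1; push_cast; ring

/-- The node elements carry the complementary products into `U`. -/
theorem Ctx.nOrb_conj_pos {i : ℕ} (hi : i ∈ S.repNodes) {w : GL D.Idx K}
    (hw : w ∈ repGen cx.hS φ T 1 (D.simple i)) :
    nOrb cx.hS φ i * w * (nOrb cx.hS φ i)⁻¹ ∈ D.posUnipotent K ⊓ fixedSub S cx.hS φ := by
  induction hw using Subgroup.closure_induction with
  | mem x hx =>
    obtain ⟨r, hr, hne, -, t, ht, rfl⟩ := hx
    obtain ⟨hlt, -, e, -, hp, heq⟩ :=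
      nOrb_conj cx.hc cx.hS φ cx.hN (mem_repNodes hi).1 (mem_repList hr).1 ht
    rw [heq]
    exact ⟨orbX_mem_pos cx.hc cx.hS φ cx.hO hlt (TwistSym.wO_pos cx.hT hi hr hne) _,
      orbX_fixed cx.hc cx.hS φ hlt hp⟩
  | one => simp
  | mul x y _ _ hx hy =>
    rw [show ∀ n a b : GL D.Idx K, n * (a * b) * n⁻¹ = (n * a * n⁻¹) * (n * b * n⁻¹) from
      fun n a b => by group]
    exact mul_mem hx hy
  | inv x _ hx =>
    rw [show ∀ n a : GL D.Idx K, n * a⁻¹ * n⁻¹ = (n * a * n⁻¹)⁻¹ from fun n a => by group]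
    exact inv_mem hx

/-- The data of a climbing step. -/
theorem Ctx.climb_spec {γ : ℕ} (hγ : γ < D.nroots) (hp : D.nroots / 2 ≤ γ) (hi : S.img γ = γ)
    (hne : γ ≠ P.θ) : ∃ i ∈ S.repNodes, D.nroots / 2 ≤ S.wO i γ ∧
      hgt D T γ < hgt D T (S.wO i γ) ∧ D.simple i ≠ γ ∧ S.wO i γ < D.nroots ∧
      S.img (S.wO i γ) = S.wO i γ ∧ ∃ v, v < D.nroots ∧ D.nroots / 2 ≤ v ∧
        hgt D T v = hgt D T γ + 1 ∧ (nco D (D.simple i) γ v).natAbs = 1 ∧
        rv D T v = rv D T (D.simple i) + rv D T γ := by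
  have h := cx.hR
  simp only [rootTest, Bool.and_eq_true, List.all_eq_true, List.mem_range, Bool.or_eq_true,
    decide_eq_true_eq] at h
  have h' := (h.1.1.2 γ hγ).resolve_left (by rintro (e | e); exacts [e hi, by omega])
  simp only [climbTest, Bool.or_eq_true, decide_eq_true_eq, List.any_eq_true, Bool.and_eq_true,
    List.mem_range] at h'
  obtain ⟨i, hir, ⟨g1, g2, g3⟩, v, hv, g4, g5, g6, g7⟩ := h'.resolve_left hne
  rw [← hgt_eq_hgtC, ← hgt_eq_hgtC] at g2
  rw [← hgt_eq_hgtC, ← hgt_eq_hgtC, ← hgt_eq_hgtC,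
    (repNode_at cx.hc cx.hS cx.hO hir).2] at g5
  simp only [sumIs, List.all_eq_true, List.mem_range, decide_eq_true_eq] at g7
  have hi' := (mem_repNodes hir).1
  refine ⟨i, hir, g1, g2, g3, wO_lt cx.hc cx.hS hi' hγ, ?_, v, hv, g4, g5, g6,
    funext fun j => g7 j j.2⟩
  rw [← (TwistSym.wO_spec cx.hN hi' hγ).1, hi]

/-- Every fixed positive root is carried to the highest root by a rational element. -/
theorem Ctx.to_theta {γ : ℕ} (hγ : γ < D.nroots) (hp : D.nroots / 2 ≤ γ) (hi : S.img γ = γ) :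
    ∃ n ∈ ratGrp cx.hS φ, ∀ t, φ t = t → ∃ t', φ t' = t' ∧ (t ≠ 0 → t' ≠ 0) ∧
      n * elX D K γ t * n⁻¹ = elX D K P.θ t' := by
  suffices key : ∀ (m : ℕ) (γ : ℕ), γ < D.nroots → D.nroots / 2 ≤ γ → S.img γ = γ →
      hgtTop D T ≤ hgt D T γ + m → ∃ n ∈ ratGrp cx.hS φ, ∀ t, φ t = t →
        ∃ t', φ t' = t' ∧ (t ≠ 0 → t' ≠ 0) ∧ n * elX D K γ t * n⁻¹ = elX D K P.θ t' from
    key (hgtTop D T - hgt D T γ).toNat γ hγ hp hi (by omega)
  intro m
  induction m with
  | zero =>
    intro γ hγ _ _ hm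
    have := hgt_lt_top (T := T) hγ
    omega
  | succ m ih =>
    intro γ hγ hp hi hm
    by_cases hne : γ = P.θ
    · subst hne
      exact ⟨1, one_mem _, fun t ht => ⟨t, ht, id, by simp⟩⟩
    obtain ⟨i, hir, g1, g2, -, g4, g5, -⟩ := cx.climb_spec hγ hp hi hne
    obtain ⟨n, hn, h⟩ := ih _ g4 g1 g5 (by push_cast at hm; omega)
    have hi' := (mem_repNodes hir).1
    refine ⟨n * nOrb cx.hS φ i, mul_mem hn (cx.nOrb_M hi'), fun t ht => ?_⟩
    obtain ⟨-, -, e, he, hpar, heq⟩ :=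
      nOrb_conj cx.hc cx.hS φ cx.hN hi' hγ (cx.par_one hi ht)
    rw [cx.orbX_one hi, cx.orbX_one g5] at heq
    obtain ⟨t', ht', hne', heq'⟩ := h _ (by rw [map_mul, map_intCast, ht] : φ ((e : K) * t) = _)
    refine ⟨t', ht', fun h0 => hne' ?_, ?_⟩
    · rcases he with rfl | rfl <;> simpa using h0
    · rw [show ∀ a b x : GL D.Idx K, a * b * x * (a * b)⁻¹ = a * (b * x * b⁻¹) * a⁻¹ from
        fun a b x => by group, heq, heq']

variable {X : Subgroup (GL D.Idx K)}
  (hMX : ratGrp cx.hS φ ≤ X) (hXG : X ≤ twistGrp cx.hS φ)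
  (hU : X ⊓ D.posUnipotent K ≤ ratSub D φ)
include hMX hXG hU

omit hMX hXG hU in
theorem conj_back {g m : GL D.Idx K} (hm : m ∈ ratGrp cx.hS φ)
    (h : m * g * m⁻¹ ∈ ratGrp cx.hS φ) : g ∈ ratGrp cx.hS φ := by
  have := mul_mem (mul_mem (inv_mem hm) h) hm
  simpa [mul_assoc] using this

/-- A rational conjugate in `U` of a fixed root element has rational centraliser. -/
theorem Ctx.cent_pos {γ : ℕ} (hγ : γ < D.nroots) (hp : D.nroots / 2 ≤ γ) (hi : S.img γ = γ)
    {u : GL D.Idx K} (hu : u ∈ D.posUnipotent K ⊓ fixedSub S cx.hS φ) {t : K} (ht0 : t ≠ 0)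
    (ht : φ t = t) (hrat : u * elX D K γ t * u⁻¹ ∈ ratSub D φ) {g : GL D.Idx K} (hg : g ∈ X)
    (h : Commute g (u * elX D K γ t * u⁻¹)) : g ∈ ratGrp cx.hS φ := by
  have hc := cx.hc
  have hS := cx.hS
  have hH := TwistSym.htPos cx.hO
  suffices key : ∀ (m : ℕ) (γ : ℕ), γ < D.nroots → D.nroots / 2 ≤ γ → S.img γ = γ →
      hgtTop D T ≤ hgt D T γ + m → ∀ u ∈ D.posUnipotent K ⊓ fixedSub S cx.hS φ, ∀ t : K, t ≠ 0 →
      φ t = t → u * elX D K γ t * u⁻¹ ∈ ratSub D φ → ∀ g ∈ X,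
      Commute g (u * elX D K γ t * u⁻¹) → g ∈ ratGrp cx.hS φ from
    key (hgtTop D T - hgt D T γ).toNat γ hγ hp hi (by omega) u hu t ht0 ht hrat g hg h
  intro m
  induction m with
  | zero =>
    intro γ hγ _ _ hm
    have := hgt_lt_top (T := T) hγ
    omega
  | succ m ih =>
    intro γ hγ hp hi hm u hu t ht0 ht hrat g hg hcom
    by_cases hne : γ = P.θ
    · subst hne
      rw [← ((cx.commute_theta t) (cx.pos_mem hu.1)).eq, mul_inv_cancel_right] at hcom
      exact cx.cent_theta hMX hXG hU hg ht0 ht hcom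
    obtain ⟨i, hir, g1, g2, g3, g4, g5, v, hv, hvp, hvh, hco, hvr⟩ := cx.climb_spec hγ hp hi hne
    have hi' := (mem_repNodes hir).1
    obtain ⟨hsr, hs1⟩ := repNode_at hc hS cx.hO hir
    obtain ⟨hsn, hsp⟩ := mem_repList hsr
    have hγ1 := hH γ hγ hp
    obtain ⟨a, hapar, hu'⟩ := exists_split_one hc cx.hcomm hS cx.hO φ le_rfl ⟨hsr, hs1⟩
      ⟨cx.highU_one_iff.2 hu.1, hu.2⟩
    set w := (orbX hS φ (D.simple i) a)⁻¹ * u with hw
    set xi := (elX D K γ t)⁻¹ with hxi
    have hxiU : xi ∈ highU D T K (hgt D T γ) := inv_mem (elX_mem_highU hc hγ hp le_rfl t)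
    obtain ⟨j, hj⟩ := exists_cv_ne_zero hc K hv
    have himg : ∀ k r, r < D.nroots → S.imgIter k r = γ → r = γ := by
      intro k r hr e
      induction k with
      | zero => exact e
      | succ k ihk =>
        exact ihk (TwistSym.img_inj hS (TwistSym.imgIter_lt hS hr k) hγ (e.trans hi.symm))
    have hterm : ∀ r, r ∈ S.repList → hgt D T r = 1 → ∀ b : K, ∀ k < S.olen r,
        (r ≠ D.simple i ∨ k ≠ 0) →
        lead (kap (elX D K (S.imgIter k r) b) xi) v j = 0 := by
      intro r hr hr1 b k hk hor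
      obtain ⟨hrn, hrp⟩ := mem_repList hr
      obtain ⟨q1, q2⟩ := TwistSym.img_pos cx.hO hS hrn hrp k
      have hkn := TwistSym.imgIter_lt hS hrn k
      by_cases e : S.imgIter k r = γ
      · rw [hxi, elX_inv hc K hγ, e, (kap_eq_one _ _).2 (by
          show _ * _ = _ * _
          rw [elX_add hc K hγ, elX_add hc K hγ, add_comm]), lead_one hc hv]
      rw [hxi, elX_inv hc K hγ,
        lead_kap_elX hc hH cx.hcomm hkn q1 hγ hp e hv hvp (by rw [q2, hr1, hvh, add_comm])]
      by_cases h0 : nco D (S.imgIter k r) γ v = 0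
      · simp [h0]
      have e' := nco_weight hc hH hkn q1 hγ hp (by rw [q2, hr1, hvh, add_comm]) h0
      rw [hvr] at e'
      have hroot : D.simple i = S.imgIter k r := rv_inj hc hsn hkn (add_right_cancel e')
      obtain ⟨q3, q4⟩ := TwistSym.rep_unique cx.hO hr hsr hk (cx.olen_pos _) hroot.symm
      exact absurd q4 (hor.resolve_left fun h' => h' q3)
    have hkey : ∀ x ∈ repGen hS φ T 1 (D.simple i), x ∈ highU D T K 1 ∧
        lead (kap x xi) v j = 0 := by
      intro x hx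
      induction hx using Subgroup.closure_induction with
      | mem y hy =>
        obtain ⟨r, hr, hne', hr1, b, -, rfl⟩ := hy
        obtain ⟨hrn, hrp⟩ := mem_repList hr
        refine ⟨orbX_mem_highU hc hS cx.hO φ hrn hrp hr1 b, ?_⟩
        rcases hr1.eq_or_lt with e | e
        · rw [orbX_eq_prod hc hS φ hrn, lead_kap_prod_left hc hH cx.hcomm le_rfl hγ1 _ ?_ hxiU hv
            (by omega), List.map_map]
          · refine List.sum_eq_zero fun z hz => ?_
            obtain ⟨k, hk, rfl⟩ := List.mem_map.1 hz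
            exact hterm r hr e.symm _ k (List.mem_range.1 hk) (Or.inl hne')
          · intro z hz
            obtain ⟨k, -, rfl⟩ := List.mem_map.1 hz
            obtain ⟨q1, q2⟩ := TwistSym.img_pos cx.hO hS hrn hrp k
            exact elX_mem_highU hc (TwistSym.imgIter_lt hS hrn k) q1 (by omega) _
        · exact lead_high hc hH (k := 2 + hgt D T γ) (by omega)
            (kap_high hc hH cx.hcomm (orbX_mem_highU hc hS cx.hO φ hrn hrp (by omega : (2 : ℤ) ≤ _) b)
              hxiU) hv (by omega) j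
      | one => exact ⟨one_mem _, by rw [kap_one_left, lead_one hc hv]⟩
      | mul y z _ _ hy hz =>
        refine ⟨mul_mem hy.1 hz.1, ?_⟩
        rw [lead_kap_mul_left hc hH cx.hcomm le_rfl hγ1 hy.1 hz.1 hxiU hv (by omega), hy.2, hz.2,
          add_zero]
      | inv y _ hy =>
        refine ⟨inv_mem hy.1, ?_⟩
        have := lead_kap_mul_left hc hH cx.hcomm le_rfl hγ1 hy.1 (inv_mem hy.1) hxiU hv
          (by omega : hgt D T v = 1 + hgt D T γ) j
        rw [mul_inv_cancel, kap_one_left, lead_one hc hv, hy.2, zero_add] at this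
        exact this.symm
    have hfa : φ a = a := by
      have hkr : kap u⁻¹ xi ∈ ratSub D φ := by
        have := mul_mem hrat (inv_mem (cx.elX_M hγ hi ht).2)
        convert this using 1
        simp only [kap, hxi, inv_inv]
      have hlead : lead (kap u⁻¹ xi) v j =
          (cv T v j : K) * ((nco D (D.simple i) γ v : ℤ) * a * t) := by
        have haU : orbX hS φ (D.simple i) (-a) ∈ highU D T K 1 :=
          orbX_mem_highU hc hS cx.hO φ hsn hsp hs1.ge _
        rw [show u⁻¹ = w⁻¹ * orbX hS φ (D.simple i) (-a) by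
            rw [← orbX_inv hc hS φ hsn, hw]; group,
          lead_kap_mul_left hc hH cx.hcomm le_rfl hγ1 (hkey _ (inv_mem hu')).1 haU hxiU hv
            (by omega), (hkey _ (inv_mem hu')).2, zero_add, orbX_eq_prod hc hS φ hsn,
          lead_kap_prod_left hc hH cx.hcomm le_rfl hγ1 _ ?_ hxiU hv (by omega), List.map_map,
          ← List.sum_toFinset _ List.nodup_range, Finset.sum_eq_single 0]
        · simp only [Function.comp_apply, TwistSym.imgIter, TwistSym.sgnIter, Int.cast_one,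
            one_mul, Function.iterate_zero_apply]
          rw [hxi, elX_inv hc K hγ, lead_kap_elX hc hH cx.hcomm hsn hsp hγ hp g3 hv hvp
            (by rw [hs1]; omega)]
          ring
        · intro k hk hk0
          rw [List.mem_toFinset, List.mem_range] at hk
          exact hterm _ hsr hs1 _ k hk (Or.inr hk0)
        · exact fun hnot =>
            absurd (List.mem_toFinset.2 (List.mem_range.2 (cx.olen_pos _))) hnot
        · intro z hz
          obtain ⟨k, -, rfl⟩ := List.mem_map.1 hz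
          obtain ⟨q1, q2⟩ := TwistSym.img_pos cx.hO hS hsn hsp k
          exact elX_mem_highU hc (TwistSym.imgIter_lt hS hsn k) q1 (by omega) _
      have h1 := lead_rat hkr v j
      rw [hlead, map_mul, map_mul, map_mul, map_intCast, map_intCast, ht] at h1
      have h2 := mul_left_cancel₀ hj h1
      have h3 : ((nco D (D.simple i) γ v : ℤ) : K) ≠ 0 := by
        rcases Int.natAbs_eq_iff.1 hco with e | e <;> simp [e]
      exact mul_left_cancel₀ h3 (mul_right_cancel₀ ht0 h2)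
    have haM : orbX hS φ (D.simple i) a ∈ ratGrp cx.hS φ := cx.orbX_fix hsn hapar hfa
    set n := nOrb hS φ i with hn
    set m' := n * (orbX hS φ (D.simple i) a)⁻¹ with hm'
    have hm'M : m' ∈ ratGrp cx.hS φ := mul_mem (cx.nOrb_M hi') (inv_mem haM)
    obtain ⟨-, -, e, he, -, heq⟩ := nOrb_conj hc hS φ cx.hN hi' hγ (cx.par_one hi ht)
    rw [cx.orbX_one hi, cx.orbX_one g5] at heq
    rw [← hn] at heq
    have hy : m' * (u * elX D K γ t * u⁻¹) * m'⁻¹ =
        n * w * n⁻¹ * elX D K (S.wO i γ) ((e : K) * t) * (n * w * n⁻¹)⁻¹ := by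
      rw [← heq, hm', hw]; group
    refine conj_back cx hm'M (ih (S.wO i γ) g4 g1 g5 (by push_cast at hm; omega) _
      (cx.nOrb_conj_pos hir hu') ((e : K) * t) ?_ (by rw [map_mul, map_intCast, ht]) ?_ _
      (mul_mem (mul_mem (hMX hm'M) hg) (inv_mem (hMX hm'M))) ?_)
    · rcases he with rfl | rfl <;> simpa using ht0
    · rw [← hy]
      exact mul_mem (mul_mem hm'M.2 hrat) (inv_mem hm'M.2)
    · rw [← hy]
      show _ * _ = _ * _
      have := hcom.eq
      calc m' * g * m'⁻¹ * (m' * (u * elX D K γ t * u⁻¹) * m'⁻¹)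
          = m' * (g * (u * elX D K γ t * u⁻¹)) * m'⁻¹ := by group
        _ = m' * (u * elX D K γ t * u⁻¹ * g) * m'⁻¹ := by rw [this]
        _ = _ := by group

/-- A rational conjugate of a highest root element has rational centraliser. -/
theorem Ctx.cent_conj [Finite K] (p : ℕ) [Fact p.Prime] [CharP K p] {y g₀ : GL D.Idx K}
    (hy : y ∈ ratGrp cx.hS φ) (hg₀ : g₀ ∈ twistGrp cx.hS φ) {t : K} (ht0 : t ≠ 0) (ht : φ t = t)
    (e : y = g₀ * elX D K P.θ t * g₀⁻¹) {g : GL D.Idx K} (hg : g ∈ X) (h : Commute g y) :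
    g ∈ ratGrp cx.hS φ := by
  have hc := cx.hc
  have hS := cx.hS
  obtain ⟨hθn, hθp, hθi⟩ := cx.spot.2.1, cx.spot.2.2.1, cx.spot.2.2.2.1
  have hyp : IsPGroup p (Subgroup.zpowers y) := by
    have h1 : y ^ p = 1 := by
      rw [e, conj_pow, cx.elX_pow hθn, CharP.cast_eq_zero, zero_mul, elX_zero hc K hθn]
      simp
    obtain ⟨k, -, hk⟩ := (Nat.dvd_prime_pow (Fact.out : p.Prime)).1
      (show orderOf y ∣ p ^ 1 by rw [pow_one]; exact orderOf_dvd_of_pow_eq_one h1)
    exact IsPGroup.of_card (n := k) (by rw [Nat.card_zpowers, hk])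
  obtain ⟨m, hm, hmy⟩ :=
    cx.sylow_conj p (Q := Subgroup.zpowers y) (Subgroup.zpowers_le.2 hy) hyp
  have hy' := hmy y (Subgroup.mem_zpowers y)
  have hmg := mul_mem hm.1 hg₀
  obtain ⟨u, hu, d, hd, L, v, hv, hk, eg⟩ := fixed_bruhat hc cx.hcomm hS φ
    (twistGrp_le_group hc hS φ hmg) (twistGrp_le_fixed hc hS φ hmg)
  obtain ⟨c₁, -, hc₁⟩ := nProd_conj_elX hc (F := K) L hθn
  obtain ⟨c₂, hc₂⟩ := diagonal_conj_elX hc hd (sigs_lt hc L hθn)
  set γ := sigs D T L P.θ with hγ
  have hγn : γ < D.nroots := sigs_lt hc L hθn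
  set t' := (c₂ : K) * ((c₁ : K) * t) with ht'
  have hkx : d * nProd D K L * elX D K P.θ t * (d * nProd D K L)⁻¹ = elX D K γ t' := by
    rw [ht', ← hc₂, ← hc₁]; group
  have hyu : m * y * m⁻¹ = u * elX D K γ t' * u⁻¹ := by
    have ev := (cx.commute_theta t (uInv_le_pos hc L hv.1)).eq
    calc m * y * m⁻¹ = (m * g₀) * elX D K P.θ t * (m * g₀)⁻¹ := by rw [e]; group
      _ = u * (d * nProd D K L) * (v * elX D K P.θ t) * v⁻¹ * (d * nProd D K L)⁻¹ * u⁻¹ := by
          rw [eg]; group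
      _ = u * (d * nProd D K L) * (elX D K P.θ t * v) * v⁻¹ * (d * nProd D K L)⁻¹ * u⁻¹ := by
          rw [ev]
      _ = _ := by rw [← hkx]; group
  have ht'0 : t' ≠ 0 := mul_ne_zero c₂.ne_zero (mul_ne_zero c₁.ne_zero ht0)
  have hγp : D.nroots / 2 ≤ γ := by
    by_contra hneg
    have h1 : elX D K γ t' ∈ D.borelSubgroup K := by
      have hu1 : u ∈ D.posUnipotent K := hu.1
      have h2 := mul_mem (mul_mem (inv_mem hu1) hy') hu1
      have h3 : u⁻¹ * (m * y * m⁻¹) * u = elX D K γ t' := by rw [hyu]; group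
      rw [h3] at h2
      exact pos_le_borel hc (cx.pos_mem h2)
    exact elX_not_mem_borel hc hγn (by omega) ht'0 h1
  have hγi : S.img γ = γ := by
    rw [hγ, ← simple_img_image hc hS φ hd hk hθn, hθi]
  have hft : φ t' = t' := by
    refine cx.fix_of_elX hγn hγi ?_
    rw [← hkx]
    exact mul_mem (mul_mem hk (twistGrp_le_fixed hc hS φ (cx.elX_M hθn hθi ht).1)) (inv_mem hk)
  refine conj_back cx hm (cx.cent_pos hMX hXG hU hγn hγp hγi hu ht'0 hft ?_
    (mul_mem (mul_mem (hMX hm) hg) (inv_mem (hMX hm))) ?_)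
  · rw [← hyu]; exact mul_mem (mul_mem hm.2 hy.2) (inv_mem hm.2)
  · rw [← hyu]
    show _ * _ = _ * _
    calc m * g * m⁻¹ * (m * y * m⁻¹) = m * (g * y) * m⁻¹ := by group
      _ = m * (y * g) * m⁻¹ := by rw [h.eq]
      _ = _ := by group

end

end CfsgLib.TwistSub
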