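import Cfsg.Agent.Lib.TwistSub.Gen
import Cfsg.Agent.Lib.Twisted.D4BN
import Cfsg.Agent.Lib.Twisted.Field

/-!
The rational part of the twisted group of type D4 is maximal.
-/

set_option autoImplicit false
set_option linter.unusedSectionVars false

namespace CfsgLib.TwistSub.D4

open Cfsg.Lie CfsgLib.Chev CfsgLib.Twisted CfsgLib.Chevalley CfsgLib.Twisted.D4

/-- The roots used. -/
def spots : Spots := ⟨1, 23, 22, 17⟩

/-- Words carrying the nodes of long orbits to the top orbit. -/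
def words : List (List ℕ) := [[0, 1], [0, 1, 0]]

theorem root_ok : rootTest chevD4 tb sym spots = true := by decide +kernel

theorem gen_ok : genTest chevD4 sym spots words = true := by decide +kernel

theorem facts : sym.wWord [1, 0] 17 = 18 ∧ sym.wWord [1] 18 = 19 ∧
    sym.olen (chevD4.simple 1) = 1 ∧ chevD4.cartan 1 18 = -1 := by decide +kernel

theorem orbit_facts : sym.olen 18 = 3 ∧ sym.olen 19 = 3 ∧
    sym.imgIter 1 18 = 13 ∧ sym.imgIter 2 18 = 12 ∧ sym.imgIter 1 19 = 16 ∧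
    sym.imgIter 2 19 = 15 ∧ sym.sgnIter 1 18 = 1 ∧ sym.sgnIter 2 18 = 1 ∧
    sym.sgnIter 1 19 = -1 ∧ sym.sgnIter 2 19 = -1 := by decide +kernel

theorem term_facts : chevD4.commTerms 14 18 = [(19, 1, 1, 1)] ∧
    chevD4.commTerms 14 13 = [(16, -1, 1, 1)] ∧ chevD4.commTerms 14 12 = [(15, -1, 1, 1)] ∧
    nco chevD4 19 13 17 = 0 ∧ nco chevD4 19 12 17 = 0 ∧ nco chevD4 16 12 17 = -1 := by
  decide +kernel

theorem height_facts : hgtC chevD4 tb 18 = 1 ∧ hgtC chevD4 tb 13 = 1 ∧ hgtC chevD4 tb 12 = 1 ∧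
    hgtC chevD4 tb 19 = 2 ∧ hgtC chevD4 tb 16 = 2 ∧ hgtC chevD4 tb 15 = 2 ∧
    hgtC chevD4 tb 17 = 3 := by decide +kernel

variable {K : Type*} [Field K] [Fintype K] {q : ℕ}

theorem ctx (hK : Fintype.card K = q ^ 3) (φ : K ≃+* K) (hφ : ∀ x, φ x = x ^ q) :
    Ctx chevD4 tb sym spots hts φ :=
  ⟨CfsgLib.Chev.D4.checked, comm_one, sym_test, orbit_ok, sym_nodeTest, sym_bnTest,
    iterate_frob_card hφ hK, root_ok⟩

theorem orbX_three (hc : Checked chevD4 tb) (φ : K ≃+* K) {r : ℕ} (hr : r < chevD4.nroots)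
    (h : sym.olen r = 3) (a : K) : orbX sym_test φ r a = elX chevD4 K r a *
      elX chevD4 K (sym.imgIter 1 r) ((sym.sgnIter 1 r : ℤ) * φ a) *
      elX chevD4 K (sym.imgIter 2 r) ((sym.sgnIter 2 r : ℤ) * φ (φ a)) := by
  rw [orbX, h, orbProd_succ, orbProd_succ, orbProd_one, twistSigma_iter_elX hc sym_test φ hr,
    twistSigma_iter_elX hc sym_test φ hr]
  rfl

theorem kap_mul_three {G : Type*} [Group G] (A B C Y : G) :
    kap (A * B * C) Y = C⁻¹ * (B⁻¹ * kap A Y * B * kap B Y) * C * kap C Y := by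
  simp only [kap]; group

theorem quot_three {G : Type*} [Group G] (a b c B C : G) :
    (a * b * c)⁻¹ * (C⁻¹ * (B⁻¹ * a * B * b) * C * c) =
      c⁻¹ * (b⁻¹ * (kap a C * (C⁻¹ * kap a B * C)) * b * kap b C) * c := by
  simp only [kap]; group

/-- The quadratic map from the parameters of a short node to those of the top orbit. -/
theorem quad (hK : Fintype.card K = q ^ 3) (φ : K ≃+* K) (hφ : ∀ x, φ x = x ^ q)
    (X : Subgroup (GL chevD4.Idx K)) (hMX : ratGrp sym_test φ ≤ X)
    (hXG : X ≤ twistGrp sym_test φ) (a : K) (ha : orbX sym_test φ 18 a ∈ X) :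
    orbX sym_test φ 17 (φ a * φ (φ a)) ∈ X := by
  have cx := ctx hK φ hφ
  have hc := cx.hc
  have hH := TwistSym.htPos cx.hO
  have hcomm := cx.hcomm
  obtain ⟨-, hW, -, -⟩ := facts
  obtain ⟨o18, o19, i1, i2, j1, j2, s1, s2, t1, t2⟩ := orbit_facts
  obtain ⟨e18, e13, e12, n0, n0', n1⟩ := term_facts
  obtain ⟨g18, g13, g12, g19, g16, g15, g17⟩ := height_facts
  rw [← hgt_eq_hgtC] at g18 g13 g12 g19 g16 g15 g17
  have lt : ∀ r, r < 24 → r < chevD4.nroots := fun r hr => hr
  have ge : ∀ r, 12 ≤ r → chevD4.nroots / 2 ≤ r := fun r hr => hr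
  set A := elX chevD4 K 18 a
  set B := elX chevD4 K 13 (φ a) with hB
  set C := elX chevD4 K 12 (φ (φ a)) with hC
  set Y := elX chevD4 K 14 (1 : K)
  set ka := elX chevD4 K 19 (-a) with hka
  set kb := elX chevD4 K 16 (φ a) with hkb
  set kc := elX chevD4 K 15 (φ (φ a)) with hkc
  have hO : orbX sym_test φ 18 a = A * B * C := by
    rw [orbX_three hc φ (lt _ (by norm_num)) o18, i1, i2, s1, s2]; simp [A, B, C]
  have hO' : orbX sym_test φ 19 (-a) = ka * kb * kc := by
    rw [orbX_three hc φ (lt _ (by norm_num)) o19, j1, j2, t1, t2]; simp [ka, kb, kc]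
  have h19 : orbX sym_test φ 19 (-a) ∈ X := by
    rw [← hW, cx.word_mem hMX hXG (by decide) (lt _ (by norm_num))
      (by rw [IsPar, o18]; exact iterate_frob_card hφ hK _)]
    exact (cx.neg_mem hMX hXG (lt _ (by norm_num))).2 ha
  have hY : Y ∈ X := hMX (cx.elX_M (lt _ (by norm_num)) (by decide +kernel) (map_one φ))
  have eA : kap A Y = ka := by
    rw [kap_single hc hH hcomm (lt _ (by norm_num)) (lt _ (by norm_num)) (by norm_num) (by decide)
      e18, hka]
    congr 1; push_cast; ring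
  have eB : kap B Y = kb := by
    rw [hB, kap_single hc hH hcomm (lt _ (by norm_num)) (lt _ (by norm_num)) (by norm_num)
      (by decide) e13, hkb]
    congr 1; push_cast; ring
  have eC : kap C Y = kc := by
    rw [hC, kap_single hc hH hcomm (lt _ (by norm_num)) (lt _ (by norm_num)) (by norm_num)
      (by decide) e12, hkc]
    congr 1; push_cast; ring
  have hv : kap (A * B * C) Y ∈ X := by
    rw [← hO]
    unfold kap
    exact mul_mem (mul_mem (mul_mem (inv_mem ha) (inv_mem hY)) ha) hY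
  rw [kap_mul_three, eA, eB, eC] at hv
  have hy := mul_mem (inv_mem (hO' ▸ h19)) hv
  rw [quot_three] at hy
  have mk : ∀ (r : ℕ) (h : ℤ), r < 24 → 12 ≤ r → h ≤ hgt chevD4 tb r → ∀ t : K,
      elX chevD4 K r t ∈ highU chevD4 tb K h :=
    fun r h h1 h2 h3 t => elX_mem_highU hc (lt r h1) (ge r h2) h3 t
  have mB : B ∈ highU chevD4 tb K 1 := mk 13 1 (by norm_num) (by norm_num) g13.ge _
  have mC : C ∈ highU chevD4 tb K 1 := mk 12 1 (by norm_num) (by norm_num) g12.ge _
  have ma : ka ∈ highU chevD4 tb K 2 := mk 19 2 (by norm_num) (by norm_num) g19.ge _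
  have mb : kb ∈ highU chevD4 tb K 2 := mk 16 2 (by norm_num) (by norm_num) g16.ge _
  have mc : kc ∈ highU chevD4 tb K 2 := mk 15 2 (by norm_num) (by norm_num) g15.ge _
  have mb1 := highU_mono hc (show (1 : ℤ) ≤ 2 by norm_num) mb
  have mc1 := highU_mono hc (show (1 : ℤ) ≤ 2 by norm_num) mc
  have p1 : kap ka C ∈ highU chevD4 tb K 3 :=
    highU_mono hc (h := 3) (h' := 2 + 1) (le_of_eq (by norm_num)) (kap_high hc hH hcomm ma mC)
  have p2 : kap kb C ∈ highU chevD4 tb K 3 :=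
    highU_mono hc (h := 3) (h' := 2 + 1) (le_of_eq (by norm_num)) (kap_high hc hH hcomm mb mC)
  have p3 : kap ka B ∈ highU chevD4 tb K 3 :=
    highU_mono hc (h := 3) (h' := 2 + 1) (le_of_eq (by norm_num)) (kap_high hc hH hcomm ma mB)
  have p4 := (conj_high hc hH hcomm mC p3).2
  have p5 := (conj_high hc hH hcomm mb1 (mul_mem p1 p4)).2
  have h17 : hgt chevD4 tb spots.top = 3 := g17
  have hw3 := (conj_high hc hH hcomm mc1 (mul_mem p5 p2)).2
  rw [← h17] at hw3
  have key : orbX sym_test φ spots.top (-(φ a * φ (φ a))) ∈ X := by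
    refine cx.top_of_lead hMX hXG hy hw3 fun j => ?_
    show lead _ 17 j = (cv tb 17 j : K) * _
    have n17 : (17 : ℕ) < chevD4.nroots := lt _ (by norm_num)
    have h3 : (1 : ℤ) ≤ 3 := by norm_num
    rw [(lead_conj hc hH hcomm h3 mc1 (mul_mem p5 p2) n17 g17 j).1,
      lead_mul hc h3 p5 p2 n17 g17, (lead_conj hc hH hcomm h3 mb1 (mul_mem p1 p4) n17 g17 j).1,
      lead_mul hc h3 p1 p4 n17 g17, (lead_conj hc hH hcomm h3 mC p3 n17 g17 j).1, hka, hkb, hB, hC,
      lead_kap_elX hc hH hcomm (lt _ (by norm_num)) (ge _ (by norm_num)) (lt _ (by norm_num))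
        (ge _ (by norm_num)) (by norm_num) n17 (ge _ (by norm_num)) (by rw [g17, g19, g12]; norm_num),
      lead_kap_elX hc hH hcomm (lt _ (by norm_num)) (ge _ (by norm_num)) (lt _ (by norm_num))
        (ge _ (by norm_num)) (by norm_num) n17 (ge _ (by norm_num)) (by rw [g17, g19, g13]; norm_num),
      lead_kap_elX hc hH hcomm (lt _ (by norm_num)) (ge _ (by norm_num)) (lt _ (by norm_num))
        (ge _ (by norm_num)) (by norm_num) n17 (ge _ (by norm_num)) (by rw [g17, g16, g12]; norm_num),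
      n0, n0', n1]
    push_cast
    ring
  exact (cx.neg_mem hMX hXG (lt 17 (by norm_num))).1 key

theorem gen (hq : IsPrimePow q) (hK : Fintype.card K = q ^ 3) (φ : K ≃+* K)
    (hφ : ∀ x, φ x = x ^ q) (X : Subgroup (GL chevD4.Idx K))
    (hMX : ratGrp sym_test φ ≤ X) (hXG : X ≤ twistGrp sym_test φ) (c : K) (hc : φ c ≠ c)
    (hcX : orbX sym_test φ 17 c ∈ X) : ∀ t, orbX sym_test φ 17 t ∈ X := by
  have cx := ctx hK φ hφ
  obtain ⟨hW, -, hl, hci⟩ := facts
  have h17 : 17 < chevD4.nroots := by decide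
  have h18 : 18 < chevD4.nroots := by decide
  have hiff : ∀ t, orbX sym_test φ 18 t ∈ X ↔ orbX sym_test φ 17 t ∈ X := fun t => by
    rw [← hW]
    exact cx.word_mem hMX hXG (by decide) h17 (cx.par_top t)
  have h1 : orbX sym_test φ 17 (1 : K) ∈ X := hMX (cx.orbX_fix h17 (isPar_one φ _) (map_one φ))
  have hsc : ∀ a t : K, φ a = a → orbX sym_test φ 18 t ∈ X →
      orbX sym_test φ 18 (a * t) ∈ X := by
    intro a t ha ht
    by_cases h0 : a = 0
    · rw [h0, zero_mul, orbX_zero cx.hc sym_test φ h18]; exact one_mem _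
    · exact cx.scale_mem hMX hXG (by decide) hl h18 (Or.inr hci) h0 ha ht
  have h3 : φ (φ (φ c)) = c := cx.hd c
  set c₁ := φ c with hc₁
  set c₂ := φ c₁ with hc₂
  have d01 : c ≠ c₁ := fun e => hc e.symm
  have d12 : c₁ ≠ c₂ := fun e => d01 (φ.injective e)
  have d02 : c ≠ c₂ := fun e => hc (by
    have := congrArg φ e
    rw [← hc₁, h3] at this
    exact this)
  have hc0 : c ≠ 0 := fun e => hc (by simp [hc₁, e])
  set w := c₁ * c₂ with hw
  have hwX : orbX sym_test φ 17 w ∈ X := quad hK φ hφ X hMX hXG c ((hiff c).2 hcX)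
  let f : {x : K // x ^ q = x} × {x : K // x ^ q = x} × {x : K // x ^ q = x} → K :=
    fun a => a.1.1 + (a.2.1.1 * c + a.2.2.1 * w)
  have indep : ∀ α β γ : K, φ α = α → φ β = β → φ γ = γ → α + (β * c + γ * w) = 0 →
      α = 0 ∧ β = 0 ∧ γ = 0 := by
    intro α β γ hα hβ hγ e
    have e0 : α * c + β * c ^ 2 + γ * (c * c₁ * c₂) = 0 := by
      rw [hw] at e; linear_combination c * e
    have hN : φ (c * c₁ * c₂) = c * c₁ * c₂ := by
      rw [map_mul, map_mul, ← hc₁, ← hc₂, h3]; ring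
    have e1 : α * c₁ + β * c₁ ^ 2 + γ * (c * c₁ * c₂) = 0 := by
      have := congrArg φ e0
      rwa [map_add, map_add, map_mul, map_mul, map_mul, map_pow, map_zero, hα, hβ, hγ, hN,
        ← hc₁] at this
    have e2 : α * c₂ + β * c₂ ^ 2 + γ * (c * c₁ * c₂) = 0 := by
      have := congrArg φ e1
      rwa [map_add, map_add, map_mul, map_mul, map_mul, map_pow, map_zero, hα, hβ, hγ, hN,
        ← hc₂] at this
    have f1 : α + β * (c + c₁) = 0 := by
      have : (c - c₁) * (α + β * (c + c₁)) = 0 := by linear_combination e0 - e1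
      exact (mul_eq_zero.1 this).resolve_left (sub_ne_zero.2 d01)
    have f2 : α + β * (c₁ + c₂) = 0 := by
      have : (c₁ - c₂) * (α + β * (c₁ + c₂)) = 0 := by linear_combination e1 - e2
      exact (mul_eq_zero.1 this).resolve_left (sub_ne_zero.2 d12)
    have hb : β = 0 := by
      have : β * (c - c₂) = 0 := by linear_combination f1 - f2
      exact (mul_eq_zero.1 this).resolve_right (sub_ne_zero.2 d02)
    have ha : α = 0 := by simpa [hb] using f1
    refine ⟨ha, hb, ?_⟩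
    have h1 : c₁ ≠ 0 := by rw [hc₁]; simpa using hc0
    have h2 : c₂ ≠ 0 := by rw [hc₂]; simpa using h1
    simpa [ha, hb, hc0, h1, h2] using e0
  have hfix : ∀ a : {x : K // x ^ q = x}, φ a.1 = a.1 := fun a => (hφ _).trans a.2
  have hf : Function.Injective f := by
    rintro ⟨a, b, d⟩ ⟨a', b', d'⟩ e
    have e' : a.1 - a'.1 + ((b.1 - b'.1) * c + (d.1 - d'.1) * w) = 0 := by
      simp only [f] at e
      linear_combination e
    obtain ⟨ha, hb, hd⟩ := indep _ _ _ (by rw [map_sub, hfix, hfix]) (by rw [map_sub, hfix, hfix])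
      (by rw [map_sub, hfix, hfix]) e'
    rw [Subtype.ext (sub_eq_zero.1 ha), Subtype.ext (sub_eq_zero.1 hb),
      Subtype.ext (sub_eq_zero.1 hd)]
  have hbij := hf.bijective_of_nat_card_le (by
    rw [Nat.card_eq_fintype_card (α := K), hK, Nat.card_prod, Nat.card_prod,
      card_fixed hq three_ne_zero hK]
    exact le_of_eq (by ring))
  intro t
  obtain ⟨⟨a, b, d⟩, rfl⟩ := hbij.2 t
  rw [← hiff]
  refine cx.add_mem hMX hXG h18 ?_ (cx.add_mem hMX hXG h18 (hsc _ _ (hfix b) ((hiff c).2 hcX))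
    (hsc _ _ (hfix d) ((hiff w).2 hwX)))
  simpa using hsc _ _ (hfix a) ((hiff 1).2 h1)

theorem maximal (p : ℕ) [Fact p.Prime] [CharP K p] (hq : IsPrimePow q)
    (hK : Fintype.card K = q ^ 3) (φ : K ≃+* K) (hφ : ∀ x, φ x = x ^ q) :
    ratGrp sym_test φ ≠ twistGrp sym_test φ ∧ ∀ X : Subgroup (GL chevD4.Idx K),
      ratGrp sym_test φ ≤ X → X ≤ twistGrp sym_test φ →
        X = ratGrp sym_test φ ∨ X = twistGrp sym_test φ := by
  refine subfield_maximal (ctx hK φ hφ) p gen_ok (gen hq hK φ hφ) ?_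
  by_contra hall
  push Not at hall
  have h1 := card_fixed hq three_ne_zero hK
  rw [Nat.card_congr (Equiv.subtypeUnivEquiv fun x => (hφ x).symm.trans (hall x)),
    Nat.card_eq_fintype_card, hK] at h1
  have := hq.two_le
  have : q ^ 1 < q ^ 3 := Nat.pow_lt_pow_right (by omega) (by norm_num)
  rw [pow_one] at this
  omega

end CfsgLib.TwistSub.D4
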