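import Cfsg.Agent.Lib.TwistSub.Gen
import Cfsg.Agent.Lib.Twisted.E6BN
import Cfsg.Agent.Lib.Twisted.Field

/-!
The rational part of the twisted group of type E6 is maximal.
-/

set_option autoImplicit false
set_option linter.unusedSectionVars false

namespace CfsgLib.TwistSub.E6

open Cfsg.Lie CfsgLib.Chev CfsgLib.Twisted CfsgLib.Chevalley CfsgLib.Twisted.E6

/-- The roots used. -/
def spots : Spots := ⟨1, 71, 70, 66⟩

/-- Words carrying the nodes of long orbits to the top orbit. -/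
def words : List (List ℕ) :=
  [[0, 2, 3, 1, 2, 3, 2], [0, 2, 3, 1, 2, 0, 3], [0, 2, 3, 1, 2, 3, 2, 0],
    [0, 2, 3, 1, 2, 0, 3, 2]]

theorem root_ok : rootTest chevE6 tb sym spots = true := by decide +kernel

theorem gen_ok : genTest chevE6 sym spots words = true := by decide +kernel

theorem facts : sym.wWord [3, 0, 2, 1, 3, 2, 0] 66 = 37 ∧ sym.olen (chevE6.simple 3) = 1 ∧
    chevE6.cartan 3 37 = -1 := by decide +kernel

variable {K : Type*} [Field K] [Fintype K] {q : ℕ}

theorem ctx (hK : Fintype.card K = q ^ 2) (φ : K ≃+* K) (hφ : ∀ x, φ x = x ^ q) :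
    Ctx chevE6 tb sym spots hts φ :=
  ⟨CfsgLib.Chev.E6.checked, comm_one, sym_test, orbit_ok, sym_nodeTest, sym_bnTest,
    iterate_frob_card hφ hK, root_ok⟩

theorem gen (hq : IsPrimePow q) (hK : Fintype.card K = q ^ 2) (φ : K ≃+* K)
    (hφ : ∀ x, φ x = x ^ q) (X : Subgroup (GL chevE6.Idx K))
    (hMX : ratGrp sym_test φ ≤ X) (hXG : X ≤ twistGrp sym_test φ) (c : K) (hc : φ c ≠ c)
    (hcX : orbX sym_test φ 66 c ∈ X) : ∀ t, orbX sym_test φ 66 t ∈ X := by
  have cx := ctx hK φ hφ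
  obtain ⟨hW, hl, hci⟩ := facts
  have h66 : 66 < chevE6.nroots := by decide
  have h37 : 37 < chevE6.nroots := by decide
  have hiff : ∀ t, orbX sym_test φ 37 t ∈ X ↔ orbX sym_test φ 66 t ∈ X := fun t => by
    rw [← hW]
    exact cx.word_mem hMX hXG (by decide) h66 (cx.par_top t)
  have h1 : orbX sym_test φ 66 (1 : K) ∈ X := hMX (cx.orbX_fix h66 (isPar_one φ _) (map_one φ))
  have hsc : ∀ a t : K, φ a = a → orbX sym_test φ 37 t ∈ X →
      orbX sym_test φ 37 (a * t) ∈ X := by
    intro a t ha ht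
    by_cases h0 : a = 0
    · rw [h0, zero_mul, orbX_zero cx.hc sym_test φ h37]; exact one_mem _
    · exact cx.scale_mem hMX hXG (by decide) hl h37 (Or.inr hci) h0 ha ht
  let f : {x : K // x ^ q = x} × {x : K // x ^ q = x} → K := fun a => a.1.1 + a.2.1 * c
  have hf : Function.Injective f := by
    rintro ⟨a, b⟩ ⟨a', b'⟩ e
    have e' : a.1 - a'.1 + (b.1 - b'.1) * c = 0 := by
      simp only [f] at e
      linear_combination e
    have hb : b.1 = b'.1 := by
      by_contra hne
      have hc' : c = (a'.1 - a.1) / (b.1 - b'.1) := by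
        rw [eq_div_iff (sub_ne_zero.2 hne)]
        linear_combination e'
      refine hc ?_
      rw [hc', map_div₀, map_sub, map_sub, hφ, hφ, hφ, hφ, a'.2, a.2, b.2, b'.2]
    refine Prod.ext (Subtype.ext ?_) (Subtype.ext hb)
    rw [hb, sub_self, zero_mul, add_zero, sub_eq_zero] at e'
    exact e'
  have hbij := hf.bijective_of_nat_card_le (by
    rw [Nat.card_eq_fintype_card (α := K), hK, Nat.card_prod, card_fixed hq two_ne_zero hK, pow_two])
  intro t
  obtain ⟨⟨a, b⟩, rfl⟩ := hbij.2 t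
  have ha : φ a.1 = a.1 := (hφ _).trans a.2
  have hb : φ b.1 = b.1 := (hφ _).trans b.2
  rw [← hiff]
  refine cx.add_mem hMX hXG h37 ?_ (hsc _ _ hb ((hiff c).2 hcX))
  simpa using hsc _ _ ha ((hiff 1).2 h1)

theorem maximal (p : ℕ) [Fact p.Prime] [CharP K p] (hq : IsPrimePow q)
    (hK : Fintype.card K = q ^ 2) (φ : K ≃+* K) (hφ : ∀ x, φ x = x ^ q) :
    ratGrp sym_test φ ≠ twistGrp sym_test φ ∧ ∀ X : Subgroup (GL chevE6.Idx K),
      ratGrp sym_test φ ≤ X → X ≤ twistGrp sym_test φ →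
        X = ratGrp sym_test φ ∨ X = twistGrp sym_test φ := by
  refine subfield_maximal (ctx hK φ hφ) p gen_ok (gen hq hK φ hφ) ?_
  by_contra hall
  push Not at hall
  have h1 := card_fixed hq two_ne_zero hK
  rw [Nat.card_congr (Equiv.subtypeUnivEquiv fun x => (hφ x).symm.trans (hall x)),
    Nat.card_eq_fintype_card, hK] at h1
  have := hq.two_le
  nlinarith [h1, pow_two q]

end CfsgLib.TwistSub.E6
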