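import Cfsg.Agent.Lib.TwistSub.Main

/-!
Parameters on one orbit occurring in an overgroup of the rational part of a twisted group.
-/

set_option autoImplicit false
set_option linter.unusedSectionVars false

namespace CfsgLib.TwistSub

open Cfsg.Lie CfsgLib.Chev CfsgLib.Twisted CfsgLib.Chevalley

variable {D : ChevalleyDatum} {T : Tabs} {S : TwistSym D} {P : Spots} {H : List ℤ}
  {K : Type*} [Field K] {φ : K ≃+* K} (cx : Ctx D T S P H φ)
include cx

/-- The factor of an element on a representative has zero coefficient off it. -/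
theorem Ctx.lead_repGen {r₀ : ℕ} (hr₀ : r₀ ∈ S.repList) {g : GL D.Idx K}
    (hg : g ∈ repGen cx.hS φ T (hgt D T r₀) r₀) (j : Fin D.rank) :
    g ∈ highU D T K (hgt D T r₀) ∧ lead g r₀ j = 0 := by
  obtain ⟨hn, hp⟩ := mem_repList hr₀
  have hH := TwistSym.htPos cx.hO
  have h1 := hH r₀ hn hp
  induction hg using Subgroup.closure_induction with
  | mem x hx =>
    obtain ⟨r, hr, hne, hge, t, -, rfl⟩ := hx
    obtain ⟨hrn, hrp⟩ := mem_repList hr
    refine ⟨orbX_mem_highU cx.hc cx.hS cx.hO φ hrn hrp hge t, ?_⟩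
    rcases hge.eq_or_lt with e | e
    · exact (lead_orbX cx.hc cx.hS cx.hO φ hr e.symm hr₀ (cx.olen_pos r₀) rfl rfl t j).trans
        (if_neg hne)
    · exact lead_high cx.hc hH (k := hgt D T r) (hH r hrn hrp)
        (orbX_mem_highU cx.hc cx.hS cx.hO φ hrn hrp le_rfl t) hn e j
  | one => exact ⟨one_mem _, lead_one cx.hc hn j⟩
  | mul a b _ _ ha hb =>
    exact ⟨mul_mem ha.1 hb.1, by rw [lead_mul cx.hc h1 ha.1 hb.1 hn rfl, ha.2, hb.2, add_zero]⟩
  | inv a _ ha =>
    refine ⟨inv_mem ha.1, ?_⟩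
    have := lead_mul cx.hc h1 ha.1 (inv_mem ha.1) hn rfl j
    rw [mul_inv_cancel, lead_one cx.hc hn, ha.2, zero_add] at this
    exact this.symm

variable {X : Subgroup (GL D.Idx K)}
  (hMX : ratGrp cx.hS φ ≤ X) (hXG : X ≤ twistGrp cx.hS φ)
include hMX hXG

/-- An element of the height of the top root yields its top coordinate. -/
theorem Ctx.top_of_lead {y : GL D.Idx K} (hy : y ∈ X) (hyU : y ∈ highU D T K (hgt D T P.top))
    {b : K} (hb : ∀ j, lead y P.top j = (cv T P.top j : K) * b) :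
    orbX cx.hS φ P.top b ∈ X := by
  have htr := cx.spot.2.2.2.2.2.2.2.2.1
  obtain ⟨hn, hp⟩ := mem_repList htr
  have h1 := TwistSym.htPos cx.hO _ hn hp
  obtain ⟨t, -, hrest⟩ := exists_split_one cx.hc cx.hcomm cx.hS cx.hO φ h1 ⟨htr, rfl⟩
    ⟨hyU, cx.mem_fixed hMX hXG hy⟩
  have hM : repGen cx.hS φ T (hgt D T P.top) P.top ≤ ratGrp cx.hS φ := by
    refine (Subgroup.closure_le _).2 ?_
    rintro g ⟨r, hr, hne, hge, a, ha, rfl⟩
    exact cx.orbX_long (mem_repList hr).1 ((cx.top_rep hr hge).resolve_left hne) ha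
  have htX : orbX cx.hS φ P.top t ∈ X := by
    have := mul_mem hy (inv_mem (hMX (hM hrest)))
    rwa [mul_inv_rev, inv_inv, ← mul_assoc, mul_inv_cancel, one_mul] at this
  obtain ⟨j, hj⟩ := exists_cv_ne_zero cx.hc K hn
  have hlead := hb j
  obtain ⟨g1, g2⟩ := cx.lead_repGen htr hrest j
  have : t = b := by
    rw [show y = orbX cx.hS φ P.top t * ((orbX cx.hS φ P.top t)⁻¹ * y) by group,
      lead_mul cx.hc h1 (orbX_mem_highU cx.hc cx.hS cx.hO φ hn hp le_rfl t) g1 hn rfl, g2,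
      add_zero, cx.lead_self htr] at hlead
    exact mul_left_cancel₀ hj hlead
  exact this ▸ htX

theorem Ctx.neg_mem {r : ℕ} (hr : r < D.nroots) {t : K} :
    orbX cx.hS φ r (-t) ∈ X ↔ orbX cx.hS φ r t ∈ X := by
  rw [← orbX_inv cx.hc cx.hS φ hr, inv_mem_iff]

theorem Ctx.add_mem {r : ℕ} (hr : r < D.nroots) {s t : K} (hs : orbX cx.hS φ r s ∈ X)
    (ht : orbX cx.hS φ r t ∈ X) : orbX cx.hS φ r (s + t) ∈ X := by
  rw [← orbX_add cx.hc cx.hS φ hr]; exact mul_mem hs ht

/-- Words in the node elements transport the parameters. -/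
theorem Ctx.word_mem {W : List ℕ} (hW : ∀ i ∈ W, i < D.rank) {a : ℕ} (ha : a < D.nroots) {t : K}
    (ht : IsPar S φ a t) :
    orbX cx.hS φ (S.wWord W a) t ∈ X ↔ orbX cx.hS φ a t ∈ X := by
  obtain ⟨n, hn, hlt, -, h⟩ := cx.word_conj_M hW ha
  obtain ⟨u, -, hu, heq⟩ := h t ht
  have hiff : orbX cx.hS φ (S.wWord W a) u ∈ X ↔ orbX cx.hS φ a t ∈ X := by
    rw [← heq, Subgroup.mul_mem_cancel_right _ (inv_mem (hMX hn)),
      Subgroup.mul_mem_cancel_left _ (hMX hn)]
  rcases hu with rfl | rfl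
  · exact hiff
  · rwa [cx.neg_mem hMX hXG hlt] at hiff

/-- The torus of a long node scales the parameters by rational factors. -/
theorem Ctx.scale_mem {i : ℕ} (hi : i < D.rank) (hl : S.olen (D.simple i) = 1) {r : ℕ}
    (hr : r < D.nroots) (hci : D.cartan i r = 1 ∨ D.cartan i r = -1) {c : K} (hc0 : c ≠ 0)
    (hcf : φ c = c) {t : K} (ht : orbX cx.hS φ r t ∈ X) : orbX cx.hS φ r (c * t) ∈ X := by
  have hc := cx.hc
  have hS := cx.hS
  have hp := simple_lt hc hi
  obtain ⟨a, ha0, haf, hac⟩ : ∃ a : Kˣ, (a : K) ≠ 0 ∧ φ (a : K) = a ∧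
      ((a ^ D.cartan i r : Kˣ) : K) = c := by
    rcases hci with e | e
    · exact ⟨Units.mk0 c hc0, hc0, hcf, by rw [e, zpow_one]; rfl⟩
    · exact ⟨(Units.mk0 c hc0)⁻¹, by simp [hc0], by simp [hcf], by simp [e]⟩
  set x := elN D K (D.simple i) (a : K) * (elN D K (D.simple i) 1)⁻¹ with hx
  have htor : x = torus D T K (corChar D T (D.simple i) a) := by
    have h := elN_mul_inv hc (F := K) hp a 1
    rw [Units.val_one, div_one] at h
    rw [hx, h]
  have hM : ∀ b : K, φ b = b → b ≠ 0 → elN D K (D.simple i) b ∈ ratGrp cx.hS φ := by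
    intro b hb hb0
    have hi' : S.img (D.simple i) = D.simple i := by
      rcases TwistSym.olen_cases S (D.simple i) with e | e
      · exact e.1
      · by_contra hne
        have := e.2
        rw [hl] at this
        exact hne (by simpa [TwistSym.imgIter, ← this] using (TwistSym.orbit_spec hS hp).1)
    have hni : S.img (D.neg (D.simple i)) = D.neg (D.simple i) := by
      rw [← TwistSym.neg_img hS hp, hi']
    rw [elN]
    exact mul_mem (mul_mem (cx.elX_M hp hi' hb) (cx.elX_M (neg_lt hc hp) hni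
      (by rw [map_neg, map_inv₀, hb]))) (cx.elX_M hp hi' hb)
  have hxM : x ∈ ratGrp cx.hS φ :=
    mul_mem (hM _ haf ha0) (inv_mem (hM 1 (map_one φ) one_ne_zero))
  have hconj : x * elX D K r t * x⁻¹ = elX D K r (c * t) := by
    rw [htor, torus_conj_elX hc _ hr, chi_corChar_simple hc (⟨i, hi⟩ : Fin D.rank) hr, ← hac]
  rw [← conj_orbX hc hS φ (twistGrp_le_fixed hc hS φ hxM.1) hconj rfl]
  exact mul_mem (mul_mem (hMX hxM) ht) (inv_mem (hMX hxM))

end CfsgLib.TwistSub
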