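import Cfsg.Agent.Lib.TwistSub.Climb

/-!
The rational part of a twisted group is a maximal subgroup.
-/

set_option autoImplicit false
set_option linter.unusedSectionVars false

namespace CfsgLib.TwistSub

open Cfsg.Lie CfsgLib.Chev CfsgLib.Twisted CfsgLib.Chevalley

variable {D : ChevalleyDatum} {T : Tabs} {S : TwistSym D} {P : Spots} {H : List ℤ}
  {K : Type*} [Field K] {φ : K ≃+* K}

/-- A term list with one term, of both multiplicities one and coefficient a unit. -/
theorem single_term {L : List (ℕ × ℤ × ℕ × ℕ)} {v : ℕ}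
    (h1 : (L.map fun c => (c.1, c.2.2)) = [(v, 1, 1)]) (h2 : (L.map fun c => c.2.1.natAbs) = [1]) :
    ∃ c : ℤ, (c = 1 ∨ c = -1) ∧ L = [(v, c, 1, 1)] := by
  match L, h1, h2 with
  | [], h1, _ => simp at h1
  | [(a, c, i, j)], h1, h2 =>
    simp only [List.map_cons, List.map_nil, List.cons.injEq, Prod.mk.injEq, and_true] at h1 h2
    obtain ⟨rfl, rfl, rfl⟩ := h1
    exact ⟨c, by rcases Int.natAbs_eq_iff.1 h2 with e | e <;> simp [e], rfl⟩
  | _ :: _ :: _, h1, _ => simp at h1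

theorem kap_conj {G : Type*} [Group G] (u a b : G) :
    kap (u * a * u⁻¹) (u * b * u⁻¹) = u * kap a b * u⁻¹ := by simp only [kap]; group

theorem commute_conj {G : Type*} [Group G] {u a b : G} (h : Commute a b) :
    Commute (u * a * u⁻¹) (u * b * u⁻¹) := by
  show _ * _ = _ * _
  calc u * a * u⁻¹ * (u * b * u⁻¹) = u * (a * b) * u⁻¹ := by group
    _ = u * (b * a) * u⁻¹ := by rw [h.eq]
    _ = _ := by group

section
variable (cx : Ctx D T S P H φ)
include cx

/-- The commutator of the neighbour of the highest root with an element of `U` is central. -/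
theorem Ctx.kap_beta {w : GL D.Idx K} (hw : w ∈ uGen D K (fun r => D.nroots / 2 ≤ r)) :
    ∃ s, kap (elX D K P.β 1) w = elX D K P.θ s := by
  have hc := cx.hc
  have h := cx.hR
  simp only [rootTest, Bool.and_eq_true] at h
  have h' := h.1.1.1.1.1.2
  simp only [centralTest, List.all_eq_true, List.mem_range, Bool.or_eq_true, Bool.and_eq_true,
    decide_eq_true_eq] at h'
  have hθ := cx.spot.2.1
  induction hw using Subgroup.closure_induction with
  | mem x hx =>
    obtain ⟨r, b, hr, hp, rfl⟩ := hx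
    obtain ⟨hβ, hβp⟩ := cx.spot.2.2.2.2.1, cx.spot.2.2.2.2.2.1
    by_cases e : P.β = r
    · subst e
      refine ⟨0, ?_⟩
      rw [elX_zero hc K hθ, kap_eq_one]
      show _ * _ = _ * _
      rw [elX_add hc K hr, elX_add hc K hr, add_comm]
    rw [kap_elX hc (TwistSym.htPos cx.hO) cx.hcomm hβ hr e (ne_neg_of_pos hc hr hp hβp), wordGL,
      ChevalleyDatum.commWord, List.map_map]
    have hall := ((h' r hr).resolve_left (by omega)).2
    generalize D.commTerms r P.β = l at hall ⊢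
    induction l with
    | nil => exact ⟨0, by simp [elX_zero hc K hθ]⟩
    | cons c l ih =>
      rw [List.forall_mem_cons] at hall
      obtain ⟨s, hs⟩ := ih hall.2
      rw [List.map_cons, List.prod_cons, hs]
      simp only [Function.comp_apply]
      rw [hall.1, elX_add hc K hθ]
      exact ⟨_, rfl⟩
  | one => exact ⟨0, by rw [kap_one_right, elX_zero hc K hθ]⟩
  | mul a b ha hb iha ihb =>
    obtain ⟨s, hs⟩ := iha
    obtain ⟨s', hs'⟩ := ihb
    refine ⟨s' + s, ?_⟩
    rw [kap_mul_right, hs, hs', mul_assoc b⁻¹, (cx.commute_theta s hb).eq, inv_mul_cancel_left,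
      elX_add hc K hθ]
  | inv a ha iha =>
    obtain ⟨s, hs⟩ := iha
    refine ⟨-s, ?_⟩
    rw [kap_inv_right, hs, elX_inv hc K hθ, ← (cx.commute_theta (-s) ha).eq, mul_inv_cancel_right]

variable {X : Subgroup (GL D.Idx K)}
  (hMX : ratGrp cx.hS φ ≤ X) (hXG : X ≤ twistGrp cx.hS φ)
  (hU : X ⊓ D.posUnipotent K ≤ ratSub D φ)
include hMX hXG hU

/-- All conjugates of the highest root element are rational. -/
theorem Ctx.theta_rat [Finite K] (p : ℕ) [Fact p.Prime] [CharP K p] {g : GL D.Idx K} (hg : g ∈ X) :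
    g * elX D K P.θ 1 * g⁻¹ ∈ ratGrp cx.hS φ := by
  have hc := cx.hc
  have hS := cx.hS
  have hH := TwistSym.htPos cx.hO
  obtain ⟨hnd, hθn, hθp, hθi, hβn, hβp, hβi, hβθ⟩ := cx.spot.1, cx.spot.2.1, cx.spot.2.2.1,
    cx.spot.2.2.2.1, cx.spot.2.2.2.2.1, cx.spot.2.2.2.2.2.1, cx.spot.2.2.2.2.2.2.1,
    cx.spot.2.2.2.2.2.2.2.1
  set z := elX D K P.θ (1 : K) with hz
  have hzM : z ∈ ratGrp cx.hS φ := cx.elX_M hθn hθi (map_one φ)
  have hgG := hXG hg
  obtain ⟨u, hu, d, hd, L, v, hv, hk, eg⟩ := fixed_bruhat hc cx.hcomm hS φ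
    (twistGrp_le_group hc hS φ hgG) (twistGrp_le_fixed hc hS φ hgG)
  obtain ⟨c₁, -, hc₁⟩ := nProd_conj_elX hc (F := K) L hθn
  obtain ⟨c₂, hc₂⟩ := diagonal_conj_elX hc hd (sigs_lt hc L hθn)
  set γ := sigs D T L P.θ with hγ
  have hγn : γ < D.nroots := sigs_lt hc L hθn
  set t := (c₂ : K) * ((c₁ : K) * 1) with ht
  have hkx : d * nProd D K L * z * (d * nProd D K L)⁻¹ = elX D K γ t := by
    rw [ht, ← hc₂, ← hc₁, hz]; group
  have ht0 : t ≠ 0 := by simp [ht, c₁.ne_zero, c₂.ne_zero]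
  have hγi : S.img γ = γ := by rw [hγ, ← simple_img_image hc hS φ hd hk hθn, hθi]
  have hft : φ t = t := by
    refine cx.fix_of_elX hγn hγi ?_
    rw [← hkx]
    exact mul_mem (mul_mem hk (twistGrp_le_fixed hc hS φ hzM.1)) (inv_mem hk)
  have hy : g * z * g⁻¹ = u * elX D K γ t * u⁻¹ := by
    have ev := (cx.commute_theta 1 (uInv_le_pos hc L hv.1)).eq
    calc g * z * g⁻¹ = u * (d * nProd D K L) * (v * z) * v⁻¹ * (d * nProd D K L)⁻¹ * u⁻¹ := by
          rw [eg]; group
      _ = u * (d * nProd D K L) * (z * v) * v⁻¹ * (d * nProd D K L)⁻¹ * u⁻¹ := by rw [← ev]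
      _ = _ := by rw [← hkx]; group
  set y := g * z * g⁻¹ with hydef
  have hyX : y ∈ X := mul_mem (mul_mem hg (hMX hzM)) (inv_mem hg)
  have huU : u ∈ uGen D K (fun r => D.nroots / 2 ≤ r) := cx.pos_mem hu.1
  by_cases hγp : D.nroots / 2 ≤ γ
  · refine cx.pos_rat hMX hXG hU hyX ?_
    rw [hy, posUnipotent_eq hc]
    exact mul_mem (mul_mem huU (elX_mem_uGen hγn (P := fun r => D.nroots / 2 ≤ r) hγp t))
      (inv_mem huU)
  have hzu : u * z * u⁻¹ = z := by
    rw [← (cx.commute_theta 1 huU).eq, mul_inv_cancel_right]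
  have hR := cx.hR
  simp only [rootTest, Bool.and_eq_true, List.all_eq_true, List.mem_range, Bool.or_eq_true,
    decide_eq_true_eq] at hR
  by_cases hnθ : γ = D.neg P.θ
  · -- the negative of the highest root
    have e := hnθ
    have hN := hR.1.1.1.1.2
    simp only [negTest, List.any_eq_true, List.mem_range, decide_eq_true_eq] at hN
    obtain ⟨w₀, hw₀, hwdef, hwi, hwβ, hwβ', hwθ, hcβ, hcv, h1, h2⟩ := hN
    obtain ⟨c, hcu, hterm⟩ := single_term h1 h2
    set z₁ := u * elX D K P.β 1 * u⁻¹ with hz₁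
    obtain ⟨s, hs⟩ := cx.kap_beta (inv_mem huU)
    have hz₁' : z₁ = elX D K P.β 1 * elX D K P.θ s := by
      rw [← hs, hz₁]; simp only [kap]; group
    have hβM : elX D K P.β 1 ∈ ratGrp cx.hS φ := cx.elX_M hβn hβi (map_one φ)
    have hz₁f : z₁ ∈ fixedSub S hS φ :=
      mul_mem (mul_mem hu.2 (twistGrp_le_fixed hc hS φ hβM.1)) (inv_mem hu.2)
    have hsf : φ s = s := by
      refine cx.fix_of_elX hθn hθi ?_
      have := mul_mem (inv_mem (twistGrp_le_fixed hc hS φ hβM.1)) hz₁f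
      rwa [hz₁', inv_mul_cancel_left] at this
    have hz₁M : z₁ ∈ ratGrp cx.hS φ := hz₁' ▸ mul_mem hβM (cx.elX_M hθn hθi hsf)
    set t' := -(c : K) * 1 * t with ht'
    have hkap : kap z₁ y = u * elX D K w₀ t' * u⁻¹ := by
      rw [hy, hz₁, kap_conj, e, kap_single hc hH cx.hcomm hβn (neg_lt hc hθn) (c := c) (v := w₀)
        (fun h' => by
          have := neg_eq hc hθn; have := nroots_eq_two_mul hc
          omega)
        (fun h' => hβθ (by rw [h', neg_neg_root hc hθn])) hterm]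
    have hwX : kap z₁ y ∈ X := by
      unfold kap
      exact mul_mem (mul_mem (mul_mem (inv_mem (hMX hz₁M)) (inv_mem hyX)) (hMX hz₁M)) hyX
    have hwM : kap z₁ y ∈ ratGrp cx.hS φ := by
      refine cx.cent_pos hMX hXG hU hβn hβp hβi hu one_ne_zero (map_one φ) hz₁M.2 hwX ?_
      rw [hkap]
      exact commute_conj (commute_of_terms hc hH cx.hcomm hw₀ hβn hwβ hcβ _ _)
    have ht'0 : t' ≠ 0 := by rcases hcu with rfl | rfl <;> simp [ht', ht0]
    have ht'f : φ t' = t' := by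
      rw [ht', map_mul, map_mul, map_neg, map_intCast, map_one, hft]
    -- the element is a conjugate of a highest root element
    have hsn := simple_lt hc hnd
    obtain ⟨-, -, e₁, he₁, -, heq⟩ :=
      nOrb_conj hc hS φ cx.hN hnd hw₀ (cx.par_one hwi ht'f)
    have hwO : S.wO P.nd w₀ = D.simple P.nd := by
      rw [hwdef, (TwistSym.wO_spec cx.hN hnd hsn).2.2, TwistSym.wO_simple cx.hN hnd,
        neg_neg_root hc hsn]
    have hsi : S.img (D.simple P.nd) = D.simple P.nd := by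
      rw [← hwO, ← (TwistSym.wO_spec cx.hN hnd hw₀).1, hwi]
    rw [hwO, cx.orbX_one hwi, cx.orbX_one hsi] at heq
    obtain ⟨n₀, hn₀, hn₀c⟩ := cx.to_theta hsn (half_le_simple hc hnd) hsi
    obtain ⟨t'', ht''f, ht''0, heq'⟩ := hn₀c ((e₁ : K) * t')
      (by rw [map_mul, map_intCast, ht'f])
    refine cx.cent_conj hMX hXG hU p hwM (g₀ := u * (n₀ * nOrb hS φ P.nd)⁻¹)
      (mul_mem (cx.fixed_pos_le hu.1 hu.2) (inv_mem (mul_mem hn₀.1 (cx.nOrb_M hnd).1)))
      (ht''0 (by rcases he₁ with rfl | rfl <;> simpa using ht'0)) ht''f ?_ hyX ?_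
    · rw [hkap, ← heq', ← heq]; group
    · rw [hkap, hy, e]
      exact commute_conj (commute_of_terms hc hH cx.hcomm (neg_lt hc hθn) hw₀
        (fun h' => hwθ (by
          have := congrArg D.neg h'
          rwa [neg_neg_root hc hθn, neg_neg_root hc hw₀, eq_comm] at this)) hcv _ _)
  rcases hR.1.1.1.2 γ hγn with e | e
  · exact absurd hγi e
  simp only [caseTest, Bool.or_eq_true, decide_eq_true_eq, List.any_eq_true, List.mem_range] at e
  rcases e with ((e | e) | e) | ⟨w₀, hw₀, hwp, hwi, hwγ, hwγ', hwθ, hcθ, hcγ, h1, h2⟩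
  · exact absurd (e ▸ hθp) hγp
  · exact absurd e hnθ
  · -- commuting
    refine cx.cent_theta hMX hXG hU hyX one_ne_zero (map_one φ) ?_
    show Commute y z
    rw [hy, ← hzu]
    refine commute_conj ?_
    exact commute_of_terms hc hH cx.hcomm hγn hθn hnθ e _ _
  · obtain ⟨c, hcu, hterm⟩ := single_term h1 h2
    set t' := -(c : K) * 1 * t with ht'
    have hγθ : γ ≠ P.θ := fun h' => hγp (h' ▸ hθp)
    have hγn' : P.θ ≠ D.neg γ := fun h' => hnθ (by rw [h', neg_neg_root hc hγn])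
    have hkap : kap z y = u * elX D K w₀ t' * u⁻¹ := by
      conv_lhs => rw [← hzu, hy]
      rw [kap_conj, hz, kap_single hc hH cx.hcomm hθn hγn (c := c) (v := w₀) hγθ.symm hγn' hterm]
    have hwX : kap z y ∈ X := by
      unfold kap
      exact mul_mem (mul_mem (mul_mem (inv_mem (hMX hzM)) (inv_mem hyX)) (hMX hzM)) hyX
    have hwU : kap z y ∈ D.posUnipotent K := by
      rw [hkap, posUnipotent_eq hc]
      exact mul_mem (mul_mem huU (elX_mem_uGen hw₀ (P := fun r => D.nroots / 2 ≤ r) hwp t'))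
        (inv_mem huU)
    have ht'0 : t' ≠ 0 := by rcases hcu with rfl | rfl <;> simp [ht', ht0]
    have ht'f : φ t' = t' := by
      rw [ht', map_mul, map_mul, map_neg, map_intCast, map_one, hft]
    refine cx.cent_pos hMX hXG hU hw₀ hwp hwi hu ht'0 ht'f
      (hkap ▸ hU ⟨hwX, hwU⟩) hyX ?_
    rw [hy]
    exact commute_conj (commute_of_terms hc hH cx.hcomm hγn hw₀ (fun h' => hwγ (by
      rw [h', neg_neg_root hc hw₀])) hcγ _ _)

/-- A subgroup with rational unipotent part is rational. -/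
theorem Ctx.le_rat [Finite K] (p : ℕ) [Fact p.Prime] [CharP K p] : X ≤ ratGrp cx.hS φ := by
  intro g hg
  have hc := cx.hc
  have hS := cx.hS
  obtain ⟨hθn, hθi⟩ := cx.spot.2.1, cx.spot.2.2.2.1
  set z := elX D K P.θ (1 : K)
  have hy := cx.theta_rat hMX hXG hU p hg
  set Q := (X ⊓ D.posUnipotent K).map (MulAut.conj g).toMonoidHom with hQ
  have hQM : Q ≤ ratGrp cx.hS φ := by
    rintro _ ⟨a, ha, rfl⟩
    obtain ⟨haX, haU⟩ := Subgroup.mem_inf.1 ha
    refine cx.cent_conj hMX hXG hU p hy (hXG hg) one_ne_zero (map_one φ) rfl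
      (mul_mem (mul_mem hg haX) (inv_mem hg)) ?_
    exact commute_conj (cx.commute_theta 1 (cx.pos_mem haU)).symm
  have hQp : IsPGroup p Q := by
    refine ((isPGroup_pos hc p).to_le ?_).map _
    rw [← posUnipotent_eq hc]
    exact inf_le_right
  obtain ⟨m, hm, hmQ⟩ := cx.sylow_conj p hQM hQp
  have hmg : m * g ∈ X := mul_mem (hMX hm) hg
  have hB : m * g ∈ D.borelSubgroup K := by
    refine cx.mem_borel_of_conj (hXG hmg) fun i hi => ?_
    obtain ⟨hsr, -⟩ := repNode_at hc hS cx.hO hi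
    obtain ⟨hsn, hsp⟩ := mem_repList hsr
    have ha : orbX hS φ (D.simple i) (1 : K) ∈ X ⊓ D.posUnipotent K :=
      ⟨hMX (cx.orbX_fix hsn (isPar_one φ _) (map_one φ)),
        orbX_mem_pos hc hS φ cx.hO hsn hsp 1⟩
    have := hmQ _ ⟨_, ha, rfl⟩
    convert this using 1
    simp only [MulEquiv.coe_toMonoidHom, MulAut.conj_apply]
    group
  have := mul_mem (inv_mem hm) (cx.borel_rat hMX hXG hU hmg hB)
  rwa [inv_mul_cancel_left] at this

end

/-- The rational part of a twisted group is a proper maximal subgroup. -/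
theorem subfield_maximal (cx : Ctx D T S P H φ) [Finite K] (p : ℕ) [Fact p.Prime] [CharP K p]
    {words : List (List ℕ)} (hw : genTest D S P words = true)
    (hgen : ∀ X : Subgroup (GL D.Idx K), ratGrp cx.hS φ ≤ X → X ≤ twistGrp cx.hS φ → ∀ c,
      φ c ≠ c → orbX cx.hS φ P.top c ∈ X → ∀ t, orbX cx.hS φ P.top t ∈ X)
    (hne : ∃ a, φ a ≠ a) :
    ratGrp cx.hS φ ≠ twistGrp cx.hS φ ∧ ∀ X : Subgroup (GL D.Idx K), ratGrp cx.hS φ ≤ X →
      X ≤ twistGrp cx.hS φ → X = ratGrp cx.hS φ ∨ X = twistGrp cx.hS φ := by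
  refine ⟨fun e => ?_, fun X hMX hXG => ?_⟩
  · obtain ⟨a, ha⟩ := hne
    have htr := cx.spot.2.2.2.2.2.2.2.2.1
    obtain ⟨hn, -⟩ := mem_repList htr
    have hmem : orbX cx.hS φ P.top a ∈ ratGrp cx.hS φ :=
      e ▸ orbX_mem cx.hc cx.hS φ cx.hN hn (cx.par_top a)
    obtain ⟨j, hj⟩ := exists_cv_ne_zero cx.hc K hn
    have h := lead_rat hmem.2 P.top j
    rw [cx.lead_self htr, map_mul, map_intCast] at h
    exact ha (mul_left_cancel₀ hj h)
  · by_cases hU : X ⊓ D.posUnipotent K ≤ ratSub D φ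
    · exact Or.inl (le_antisymm (cx.le_rat hMX hXG hU p) hMX)
    · obtain ⟨x, hx, hxn⟩ := SetLike.not_le_iff_exists.1 hU
      obtain ⟨hxX, hxU⟩ := Subgroup.mem_inf.1 hx
      obtain ⟨c, hc, hcX⟩ := cx.exists_top hMX hXG hxX hxU hxn
      exact Or.inr (cx.eq_top hMX hXG hw (hgen X hMX hXG c hc hcX))

end CfsgLib.TwistSub
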