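import Cfsg.Agent.Lib.TwistSub.Setup
import Cfsg.Agent.Lib.TwistSub.Checks
import Mathlib.GroupTheory.Nilpotent
import Cfsg.Agent.Lib.Chev.RadicalCentralizer

/-!
A subgroup between the rational part and the twisted group which has an irrational unipotent element
has one on the orbit of the top short root.
-/

set_option autoImplicit false
set_option linter.unusedSectionVars false

namespace CfsgLib.TwistSub

open Cfsg.Lie CfsgLib.Chev CfsgLib.Twisted CfsgLib.Chevalley

/-- The hypotheses on a twisted group. -/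
structure Ctx (D : ChevalleyDatum) (T : Tabs) (S : TwistSym D) (P : Spots) (H : List ℤ)
    {K : Type*} [Field K] (φ : K ≃+* K) : Prop where
  hc : Checked D T
  hcomm : CommOne D T
  hS : S.test = true
  hO : S.orbitTest T = true
  hN : S.nodeTest H = true
  hT : S.bnTest = true
  hd : ∀ x : K, (⇑φ)^[S.d] x = x
  hR : rootTest D T S P = true

variable {D : ChevalleyDatum} {T : Tabs} {S : TwistSym D} {P : Spots} {H : List ℤ}
  {K : Type*} [Field K] {φ : K ≃+* K}

/-- The rational part of the twisted group. -/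
noncomputable def ratGrp (hS : S.test = true) (φ : K ≃+* K) : Subgroup (GL D.Idx K) :=
  twistGrp hS φ ⊓ ratSub D φ

/-! Reading the tests -/

theorem sum_flatMap' {α β : Type*} [AddMonoid β] (l : List α) (f : α → List β) :
    (l.flatMap f).sum = (l.map fun a => (f a).sum).sum := by
  rw [List.flatMap_def, List.sum_flatten, List.map_map]
  rfl

section
variable (cx : Ctx D T S P H φ)
include cx

theorem Ctx.spot : P.nd < D.rank ∧ P.θ < D.nroots ∧ D.nroots / 2 ≤ P.θ ∧ S.img P.θ = P.θ ∧
    P.β < D.nroots ∧ D.nroots / 2 ≤ P.β ∧ S.img P.β = P.β ∧ P.β ≠ P.θ ∧ P.top ∈ S.repList ∧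
    S.img P.top ≠ P.top := by
  have h := cx.hR
  simp only [rootTest, spotTest, Bool.and_eq_true, decide_eq_true_eq] at h
  exact h.1.1.1.1.1.1.1

theorem Ctx.step {r : ℕ} (hr : r ∈ S.repList) : stepTest D T S P r = true := by
  have h := cx.hR
  simp only [rootTest, Bool.and_eq_true, List.all_eq_true] at h
  exact h.1.2 r hr

theorem Ctx.top_rep {r : ℕ} (hr : r ∈ S.repList) (hh : hgt D T P.top ≤ hgt D T r) :
    r = P.top ∨ S.olen r = 1 := by
  have h := cx.hR
  simp only [rootTest, Bool.and_eq_true, List.all_eq_true, decide_eq_true_eq] at h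
  rw [hgt_eq_hgtC, hgt_eq_hgtC] at hh
  exact (h.2 r hr).resolve_left (by omega)

theorem Ctx.olen_top : S.olen P.top = S.d :=
  ((TwistSym.olen_cases S P.top).resolve_left fun h =>
    cx.spot.2.2.2.2.2.2.2.2.2 h.1).2

theorem Ctx.par_top (t : K) : IsPar S φ P.top t := by
  rw [IsPar, cx.olen_top]; exact cx.hd t

/-! Rationality -/

theorem ratGrp_le : ratGrp cx.hS φ ≤ twistGrp cx.hS φ := inf_le_left

theorem Ctx.orbX_fix {r : ℕ} (hr : r < D.nroots) {t : K} (hp : IsPar S φ r t) (ht : φ t = t) :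
    orbX cx.hS φ r t ∈ ratGrp cx.hS φ :=
  ⟨orbX_mem cx.hc cx.hS φ cx.hN hr hp, orbX_rat cx.hc cx.hS φ hr ht⟩

omit cx in
theorem fix_of_olen_one {r : ℕ} {t : K} (h : S.olen r = 1) (ht : IsPar S φ r t) : φ t = t := by
  simpa [IsPar, h] using ht

theorem Ctx.orbX_long {r : ℕ} (hr : r < D.nroots) (h : S.olen r = 1) {t : K}
    (ht : IsPar S φ r t) : orbX cx.hS φ r t ∈ ratGrp cx.hS φ :=
  cx.orbX_fix hr ht (fix_of_olen_one h ht)

theorem Ctx.nOrb_M {i : ℕ} (hi : i < D.rank) : nOrb cx.hS φ i ∈ ratGrp cx.hS φ :=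
  ⟨nOrb_mem cx.hc cx.hS φ cx.hN hi, nOrb_rat cx.hc cx.hS φ cx.hN hi⟩

omit cx in
theorem lead_rat {g : GL D.Idx K} (hg : g ∈ ratSub D φ) (v : ℕ) (j : Fin D.rank) :
    φ (lead g v j) = lead g v j := by
  unfold lead
  split_ifs with h
  · conv_rhs => rw [← mem_ratSub.1 hg]
    rfl
  · exact map_zero _

/-- Words in the node elements lie in the rational part. -/
theorem Ctx.word_conj_M {L : List ℕ} (hL : ∀ i ∈ L, i < D.rank) {r : ℕ} (hr : r < D.nroots) :
    ∃ n ∈ ratGrp cx.hS φ, S.wWord L r < D.nroots ∧ S.olen (S.wWord L r) = S.olen r ∧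
      ∀ t, IsPar S φ r t → ∃ u, IsPar S φ (S.wWord L r) u ∧ (u = t ∨ u = -t) ∧
        n * orbX cx.hS φ r t * n⁻¹ = orbX cx.hS φ (S.wWord L r) u := by
  induction L with
  | nil => exact ⟨1, one_mem _, hr, rfl, fun t ht => ⟨t, ht, Or.inl rfl, by simp [TwistSym.wWord]⟩⟩
  | cons i L ih =>
    rw [List.forall_mem_cons] at hL
    obtain ⟨n, hn, hlt, hlen, h⟩ := ih hL.2
    obtain ⟨hlt', hlen', -⟩ := nOrb_conj cx.hc cx.hS φ cx.hN hL.1 hlt (isPar_zero φ _)
    refine ⟨nOrb cx.hS φ i * n, mul_mem (cx.nOrb_M hL.1) hn, hlt', hlen'.trans hlen, fun t ht => ?_⟩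
    obtain ⟨u, hu, hut, heq⟩ := h t ht
    obtain ⟨-, -, e, he, hu', heq'⟩ := nOrb_conj cx.hc cx.hS φ cx.hN hL.1 hlt hu
    refine ⟨(e : K) * u, hu', ?_, ?_⟩
    · rcases he with rfl | rfl <;> rcases hut with rfl | rfl <;> simp
    · rw [show ∀ m k x : GL D.Idx K, m * k * x * (m * k)⁻¹ = m * (k * x * k⁻¹) * m⁻¹ from
        fun m k x => by group, heq, heq']
      rfl

/-- The coefficient at `v` of a commutator with the orbit product of a node. -/
theorem Ctx.lead_kap_orb {r i v : ℕ} (hr : r ∈ S.repList) (hi : i ∈ S.repNodes) (hv : v < D.nroots)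
    (hvp : D.nroots / 2 ≤ v) (hvh : hgt D T v = hgt D T r + 1)
    (hnco : ∀ k < S.olen r, ∀ j < S.olen (D.simple i), S.imgIter k r = S.imgIter j (D.simple i) →
      nco D (S.imgIter k r) (S.imgIter j (D.simple i)) v = 0) (a : K) (c : Fin D.rank) :
    lead (kap (orbX cx.hS φ r a) (orbX cx.hS φ (D.simple i) 1)) v c =
      (cv T v c : K) * ((List.range (S.olen r)).map fun k =>
        ((List.range (S.olen (D.simple i))).map fun j =>
          ((nco D (S.imgIter k r) (S.imgIter j (D.simple i)) v * S.sgnIter k r *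
            S.sgnIter j (D.simple i) : ℤ) : K) * (⇑φ)^[k] a).sum).sum := by
  obtain ⟨hrn, hrp⟩ := mem_repList hr
  have hH := TwistSym.htPos cx.hO
  obtain ⟨hsr, hs1⟩ := repNode_at cx.hc cx.hS cx.hO hi
  obtain ⟨hsn, hsp⟩ := mem_repList hsr
  have h1 := hH r hrn hrp
  have hbk : ∀ k, elX D K (S.imgIter k r) ((S.sgnIter k r : ℤ) * (⇑φ)^[k] a) ∈
      highU D T K (hgt D T r) := fun k =>
    elX_mem_highU cx.hc (TwistSym.imgIter_lt cx.hS hrn k) (TwistSym.img_pos cx.hO cx.hS hrn hrp k).1
      (TwistSym.img_pos cx.hO cx.hS hrn hrp k).2.ge _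
  have hbj : ∀ j, elX D K (S.imgIter j (D.simple i)) ((S.sgnIter j (D.simple i) : ℤ) *
      (⇑φ)^[j] (1 : K)) ∈ highU D T K 1 := fun j =>
    elX_mem_highU cx.hc (TwistSym.imgIter_lt cx.hS hsn j)
      (TwistSym.img_pos cx.hO cx.hS hsn hsp j).1
      (by rw [(TwistSym.img_pos cx.hO cx.hS hsn hsp j).2, hs1]) _
  rw [orbX_eq_prod cx.hc cx.hS φ hrn, orbX_eq_prod cx.hc cx.hS φ hsn]
  rw [lead_kap_prod_left cx.hc hH cx.hcomm h1 le_rfl _ (by simpa using fun k _ => hbk k)
    (Subgroup.list_prod_mem _ (by simpa using fun j _ => hbj j)) hv hvh, List.map_map,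
    ← List.sum_map_mul_left]
  refine congrArg List.sum (List.map_congr_left fun k hk => ?_)
  rw [List.mem_range] at hk
  simp only [Function.comp_apply]
  rw [lead_kap_prod_right cx.hc hH cx.hcomm h1 le_rfl _ (by simpa using fun j _ => hbj j) (hbk k)
    hv hvh, List.map_map, ← List.sum_map_mul_left]
  refine congrArg List.sum (List.map_congr_left fun j hj => ?_)
  rw [List.mem_range] at hj
  simp only [Function.comp_apply]
  obtain ⟨g1, g2⟩ := TwistSym.img_pos cx.hO cx.hS hrn hrp k
  obtain ⟨g1', g2'⟩ := TwistSym.img_pos cx.hO cx.hS hsn hsp j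
  by_cases e : S.imgIter k r = S.imgIter j (D.simple i)
  · have h0 := hnco k hk j hj e
    rw [h0, e, (kap_eq_one _ _).2 (by
      show _ * _ = _ * _
      rw [elX_add cx.hc K (TwistSym.imgIter_lt cx.hS hsn j),
        elX_add cx.hc K (TwistSym.imgIter_lt cx.hS hsn j), add_comm]), lead_one cx.hc hv]
    simp
  · rw [lead_kap_elX cx.hc hH cx.hcomm (TwistSym.imgIter_lt cx.hS hrn k) g1
      (TwistSym.imgIter_lt cx.hS hsn j) g1' e hv hvp (by rw [g2, g2', hs1]; exact hvh)]
    have : (⇑φ)^[j] (1 : K) = 1 := Function.iterate_fixed (map_one φ) j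
    rw [this]
    push_cast
    ring

omit cx in
/-- The patterns of contributions detect an irrational coefficient. -/
theorem fixed_of_goodContribs (hd3 : S.d = 3 → ∀ x : K, (⇑φ)^[3] x = x) {r : ℕ}
    {L : List (ℕ × ℕ × ℤ)} (hL : goodContribs D S r L = true) (a : ℕ → K)
    (h : φ ((L.map fun c => (c.2.2 : K) * (⇑φ)^[c.2.1] (a c.1)).sum) =
      (L.map fun c => (c.2.2 : K) * (⇑φ)^[c.2.1] (a c.1)).sum) : φ (a r) = a r := by
  match L, hL with
  | [(r', k, e)], hL =>
    simp only [goodContribs, decide_eq_true_eq] at hL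
    obtain ⟨rfl, he⟩ := hL
    rcases Int.natAbs_eq_iff.1 he with rfl | rfl <;>
      simp only [List.map_cons, List.map_nil, List.sum_cons, List.sum_nil, add_zero, map_mul,
        map_intCast, Int.cast_neg, Nat.cast_one, Int.cast_one, neg_mul, one_mul, map_neg,
        neg_inj] at h <;>
      exact (φ.injective.iterate k) (by rwa [← Function.iterate_succ_apply,
        Function.iterate_succ_apply'])
  | [(r', k, e), (r'', k', e')], hL =>
    simp only [goodContribs, decide_eq_true_eq] at hL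
    obtain ⟨rfl, rfl, he, rfl, hd, hkk, hk'⟩ := hL
    have hs : φ ((⇑φ)^[k] (a r'') + (⇑φ)^[k'] (a r'')) =
        (⇑φ)^[k] (a r'') + (⇑φ)^[k'] (a r'') := by
      rcases Int.natAbs_eq_iff.1 he with rfl | rfl <;>
      · simp only [List.map_cons, List.map_nil, List.sum_cons, List.sum_nil, add_zero, map_add,
          map_mul, map_intCast, Int.cast_neg, Nat.cast_one, Int.cast_one, neg_mul, one_mul,
          map_neg] at h
        rw [map_add]
        first
          | linear_combination h
          | linear_combination -h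
    have h3 : φ (φ (φ (a r''))) = a r'' := hd3 hd (a r'')
    interval_cases k' <;> interval_cases k <;>
      simp only [Function.iterate_succ_apply', Function.iterate_zero_apply, map_add, h3] at hs
    · have e1 : φ (φ (a r'')) = a r'' := by linear_combination hs
      calc φ (a r'') = φ (φ (φ (a r''))) := (congrArg φ e1).symm
        _ = a r'' := h3
    · exact φ.injective (by linear_combination -hs)
    · linear_combination -hs

end

section
variable (cx : Ctx D T S P H φ) {X : Subgroup (GL D.Idx K)}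
  (hMX : ratGrp cx.hS φ ≤ X) (hXG : X ≤ twistGrp cx.hS φ)
include cx hMX hXG

theorem Ctx.mem_fixed {g : GL D.Idx K} (hg : g ∈ X) : g ∈ fixedSub S cx.hS φ :=
  twistGrp_le_fixed cx.hc cx.hS φ (hXG hg)

/-- An irrational unipotent element yields one on the orbit of the top root. -/
theorem Ctx.exists_top {x : GL D.Idx K} (hx : x ∈ X) (hxU : x ∈ D.posUnipotent K)
    (hxn : x ∉ ratSub D φ) : ∃ c, φ c ≠ c ∧ orbX cx.hS φ P.top c ∈ X := by
  have hH := TwistSym.htPos cx.hO
  suffices key : ∀ (m : ℕ) (h : ℤ), 1 ≤ h → hgtTop D T ≤ h + m →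
      ∀ y ∈ X, y ∈ highU D T K h → y ∉ ratSub D φ → ∃ c, φ c ≠ c ∧ orbX cx.hS φ P.top c ∈ X by
    refine key (hgtTop D T - 1).toNat 1 le_rfl (by omega) x hx ?_ hxn
    rwa [highU_one cx.hc hH]
  intro m
  induction m with
  | zero =>
    intro h _ hm y _ hy hyn
    rw [highU_top cx.hc (fun r hr => lt_of_lt_of_le (hgt_lt_top hr) (by simpa using hm)),
      Subgroup.mem_bot] at hy
    exact absurd (hy ▸ one_mem _) hyn
  | succ m ih =>
    intro h h1 hm y hy hyU hyn
    have next : ∀ z ∈ X, z ∈ highU D T K (h + 1) → z ∉ ratSub D φ →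
        ∃ c, φ c ≠ c ∧ orbX cx.hS φ P.top c ∈ X :=
      fun z => ih (h + 1) (by omega) (by push_cast at hm; omega) z
    by_contra hgoal
    set L := repsAt D T S h with hLdef
    have hL : ∀ r ∈ L, RepAt D T S h r := fun r hr => mem_repsAt.1 hr
    obtain ⟨a, ha, hrest⟩ := exists_split cx.hc cx.hS cx.hO φ cx.hcomm h1 repsAt_nodup
      (fun _ => mem_repsAt) ⟨hyU, cx.mem_fixed hMX hXG hy⟩
    rw [← hLdef] at ha hrest
    by_cases hall : ∀ r ∈ L, φ (a r) = a r
    · have hP : orbP cx.hS φ L a ∈ ratGrp cx.hS φ := by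
        refine Subgroup.list_prod_mem _ fun g hg => ?_
        obtain ⟨r, hr, rfl⟩ := List.mem_map.1 hg
        exact cx.orbX_fix (mem_repList (hL r hr).1).1 (ha r hr) (hall r hr)
      refine hgoal (next _ (mul_mem (inv_mem (hMX hP)) hy) hrest.1 fun hrat => hyn ?_)
      have := mul_mem hP.2 hrat
      rwa [mul_inv_cancel_left] at this
    push Not at hall
    obtain ⟨r, hr, hra⟩ := hall
    obtain ⟨hrep, hrh⟩ := hL r hr
    obtain ⟨hrn, hrp⟩ := mem_repList hrep
    have hstep := cx.step hrep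
    simp only [stepTest, Bool.or_eq_true, decide_eq_true_eq, Bool.and_eq_true, List.any_eq_true,
      List.mem_range, List.all_eq_true] at hstep
    rcases hstep with (hlen | rfl) | ⟨-, i, hi, v, hvn, ⟨⟨hvp, hvh⟩, hgood⟩, hzero⟩
    · exact hra (fix_of_olen_one hlen (ha r hr))
    · obtain ⟨t, ht, hrest'⟩ := exists_split_one cx.hc cx.hcomm cx.hS cx.hO φ h1 (hL P.top hr)
        ⟨hyU, cx.mem_fixed hMX hXG hy⟩
      have hM' : repGen cx.hS φ T h P.top ≤ ratGrp cx.hS φ := by
        refine (Subgroup.closure_le _).2 ?_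
        rintro g ⟨r', hr', hne, hge, b, hb, rfl⟩
        exact cx.orbX_long (mem_repList hr').1
          ((cx.top_rep hr' (by omega)).resolve_left hne) hb
      refine hgoal ⟨t, fun e => hyn ?_, ?_⟩
      · have := mul_mem (cx.orbX_fix hrn ht e).2 (hM' hrest').2
        rwa [mul_inv_cancel_left] at this
      · have := mul_mem hy (inv_mem (hMX (hM' hrest')))
        rw [mul_inv_rev, inv_inv, ← mul_assoc, mul_inv_cancel, one_mul] at this
        exact this
    rw [← hgt_eq_hgtC, ← hgt_eq_hgtC] at hvh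
    obtain ⟨hsr, hs1⟩ := repNode_at cx.hc cx.hS cx.hO hi
    obtain ⟨hsn, hsp⟩ := mem_repList hsr
    set b := orbX cx.hS φ (D.simple i) (1 : K) with hbdef
    have hbM : b ∈ ratGrp cx.hS φ := cx.orbX_fix hsn (isPar_one φ _) (map_one φ)
    have hbU : b ∈ highU D T K 1 := orbX_mem_highU cx.hc cx.hS cx.hO φ hsn hsp hs1.ge _
    have hwX : kap y b ∈ X := by
      unfold kap
      exact mul_mem (mul_mem (mul_mem (inv_mem hy) (inv_mem (hMX hbM))) hy) (hMX hbM)
    have hwU := kap_high cx.hc hH cx.hcomm hyU hbU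
    have hwrat : kap y b ∈ ratSub D φ := by_contra fun hn => hgoal (next _ hwX hwU hn)
    obtain ⟨j, hj⟩ := exists_cv_ne_zero cx.hc K hvn
    have hPU := orbP_mem_highU cx.hc cx.hS cx.hO φ hL a
    have hlead : lead (kap y b) v j = (cv T v j : K) *
        ((contribs D T S r i v).map fun c => (c.2.2 : K) * (⇑φ)^[c.2.1] (a c.1)).sum := by
      rw [show y = orbP cx.hS φ L a * ((orbP cx.hS φ L a)⁻¹ * y) by group,
        lead_kap_mul_left cx.hc hH cx.hcomm h1 le_rfl hPU
          (highU_mono cx.hc (by omega) hrest.1) hbU hvn (by omega),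
        lead_high cx.hc hH (k := h + 1 + 1) (by omega)
          (kap_high cx.hc hH cx.hcomm hrest.1 hbU) hvn (by omega), add_zero, orbP,
        lead_kap_prod_left cx.hc hH cx.hcomm h1 le_rfl _ (by
          intro g hg
          obtain ⟨r', hr', rfl⟩ := List.mem_map.1 hg
          obtain ⟨g1, g2⟩ := mem_repList (hL r' hr').1
          exact orbX_mem_highU cx.hc cx.hS cx.hO φ g1 g2 (hL r' hr').2.ge _) hbU hvn (by omega),
        List.map_map]
      have hLeq : (S.repList.filter fun r' => decide (hgtC D T r' = hgtC D T r)) = L := by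
        rw [hLdef, repsAt]
        refine List.filter_congr fun r' _ => ?_
        rw [← hgt_eq_hgtC, ← hgt_eq_hgtC, hrh]
      have hfilter : ∀ (l : List (ℕ × ℕ × ℤ)),
          ((l.filter fun c => decide (c.2.2 ≠ 0)).map fun c =>
            (c.2.2 : K) * (⇑φ)^[c.2.1] (a c.1)).sum =
          (l.map fun c => (c.2.2 : K) * (⇑φ)^[c.2.1] (a c.1)).sum := by
        intro l
        induction l with
        | nil => rfl
        | cons c l ihl =>
          by_cases hc0 : c.2.2 = 0 <;> simp [List.filter_cons, hc0, ← ihl]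
      rw [contribs, hfilter, hLeq, List.map_flatMap, sum_flatMap', ← List.sum_map_mul_left]
      refine congrArg List.sum (List.map_congr_left fun r' hr' => ?_)
      simp only [Function.comp_apply]
      rw [cx.lead_kap_orb (hL r' hr').1 hi hvn hvp (by rw [(hL r' hr').2]; omega) ?_ (a r') j]
      · congr 1
        rw [List.map_flatMap, sum_flatMap']
        refine congrArg List.sum (List.map_congr_left fun k _ => ?_)
        rw [List.map_map]
        rfl
      · intro k hk j hj e
        have := hzero r' (by rw [hLeq]; exact hr') k hk j hj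
        simpa [e] using this e
    refine hra (fixed_of_goodContribs (fun e x => e ▸ cx.hd x) hgood a ?_)
    have := lead_rat hwrat v j
    rw [hlead, map_mul, map_intCast] at this
    exact mul_left_cancel₀ hj this

/-- A subgroup with all elements of the top orbit is the whole group. -/
theorem Ctx.eq_top {words : List (List ℕ)} (hg : genTest D S P words = true)
    (htop : ∀ t, orbX cx.hS φ P.top t ∈ X) : X = twistGrp cx.hS φ := by
  refine le_antisymm hXG ((Subgroup.closure_le _).2 ?_)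
  rintro g ⟨i, hi, r, hr, t, ht, rfl⟩
  have hp := simple_lt cx.hc hi
  have hrn : r < D.nroots := by
    rcases hr with rfl | rfl
    · exact hp
    · exact neg_lt cx.hc hp
  have hlenr : S.olen r = S.olen (D.simple i) := by
    rcases hr with rfl | rfl
    · rfl
    · exact TwistSym.olen_neg cx.hc cx.hS hp
  simp only [genTest, List.all_eq_true, List.mem_range, Bool.or_eq_true, decide_eq_true_eq,
    List.any_eq_true, Bool.and_eq_true] at hg
  rcases hg i hi with h1 | h2
  · exact hMX (cx.orbX_long hrn (hlenr.trans h1) ht)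
  obtain ⟨W, -, hW, k, hk, e⟩ := h2 r (by rcases hr with rfl | rfl <;> simp)
  obtain ⟨n, hn, -, -, hconj⟩ := cx.word_conj_M hW hrn
  obtain ⟨u, hu, -, heq⟩ := hconj t ht
  rw [e] at hu heq
  obtain ⟨w, -, hw⟩ := orbX_iter cx.hc cx.hS φ cx.hN cx.hT (mem_repList
    cx.spot.2.2.2.2.2.2.2.2.1).1 k hu
  have hmem : orbX cx.hS φ (S.imgIter k P.top) u ∈ X := hw ▸ htop w
  rw [← heq, Subgroup.mul_mem_cancel_right _ (inv_mem (hMX hn)),
    Subgroup.mul_mem_cancel_left _ (hMX hn)] at hmem
  exact hmem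

end

end CfsgLib.TwistSub
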